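import Groth.Agent.H20Comod.DualMod
import Groth.Agent.H20Comod.Slices
import Groth.Prelude.Def_ComodSub
import Mathlib.RingTheory.Bialgebra.Convolution
import Mathlib.RingTheory.HopfAlgebra.Convolution

/-!
A normal unipotent subgroup of a linearly reductive group is trivial: its fixed vectors form a
subrepresentation, and a complement would contain a fixed vector.
-/

set_option autoImplicit false
set_option linter.style.haveILetI false
set_option linter.unusedSectionVars false
set_option backward.isDefEq.respectTransparency false

universe u w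

open TensorProduct HopfRep WithConv
open Groth.Agent.H20Comod

namespace Groth.Agent.H20Red

noncomputable section

variable {k : Type u} [Field k] {A : Type u} [CommRing A] [HopfAlgebra k A]
variable {B : Type u} [CommRing B] [Bialgebra k B] (π : A →ₐc[k] B)
variable (V : Type u) [AddCommGroup V] [Module k V] [Comod k A V]

/-- The coaction corestricted along a map of bialgebras. -/
def coactAlong : V →ₗ[k] V ⊗[k] B :=
  (π : A →ₐ[k] B).toLinearMap.lTensor V ∘ₗ Comod.coact (k := k) (A := A)

/-- The corestricted comodule. -/
@[reducible] def comodAlong : Comod k B V where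
  coact := coactAlong π V
  coassoc := by
    refine LinearMap.ext fun v => ?_
    have h1 := LinearMap.congr_fun (Comod.coassoc (k := k) (A := A) (V := V)) v
    simp only [LinearMap.coe_comp, Function.comp_apply, LinearEquiv.coe_coe] at h1
    have hπ : ∀ a : A, CoalgebraStruct.comul (R := k) ((π : A →ₐ[k] B) a) =
        TensorProduct.map (π : A →ₐ[k] B).toLinearMap (π : A →ₐ[k] B).toLinearMap
          (CoalgebraStruct.comul (R := k) a) := fun a =>
      (CoalgHomClass.map_comp_comul_apply π a).symm
    have e1 : ∀ z : V ⊗[k] A, LinearMap.lTensor V (CoalgebraStruct.comul (R := k) (A := B))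
        (LinearMap.lTensor V (π : A →ₐ[k] B).toLinearMap z) =
        LinearMap.lTensor V (TensorProduct.map (π : A →ₐ[k] B).toLinearMap (π : A →ₐ[k] B).toLinearMap)
          (LinearMap.lTensor V (CoalgebraStruct.comul (R := k) (A := A)) z) := by
      intro z
      induction z using TensorProduct.induction_on with
      | zero => simp
      | tmul p a =>
        simp only [LinearMap.lTensor_tmul]
        exact congrArg (p ⊗ₜ[k] ·) (hπ a)
      | add x y hx hy => simp only [map_add, hx, hy]
    have e2 : ∀ z : (V ⊗[k] A) ⊗[k] A,
        TensorProduct.assoc k V B B (TensorProduct.map (LinearMap.lTensor V (π : A →ₐ[k] B).toLinearMap)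
          (π : A →ₐ[k] B).toLinearMap z) =
        LinearMap.lTensor V (TensorProduct.map (π : A →ₐ[k] B).toLinearMap (π : A →ₐ[k] B).toLinearMap)
          (TensorProduct.assoc k V A A z) := by
      intro z
      induction z using TensorProduct.induction_on with
      | zero => simp
      | tmul q c =>
        induction q using TensorProduct.induction_on with
        | zero => simp
        | tmul p a => simp
        | add x y hx hy => simp only [TensorProduct.add_tmul, map_add, hx, hy]
      | add x y hx hy => simp only [map_add, hx, hy]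
    have e3 : ∀ z : V ⊗[k] A, LinearMap.rTensor B (coactAlong π V)
        (LinearMap.lTensor V (π : A →ₐ[k] B).toLinearMap z) =
        TensorProduct.map (LinearMap.lTensor V (π : A →ₐ[k] B).toLinearMap) (π : A →ₐ[k] B).toLinearMap
          (LinearMap.rTensor A (Comod.coact (k := k) (A := A)) z) := by
      intro z
      induction z using TensorProduct.induction_on with
      | zero => simp
      | tmul p a => simp [coactAlong]
      | add x y hx hy => simp only [map_add, hx, hy]
    show TensorProduct.assoc k V B B (LinearMap.rTensor B (coactAlong π V)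
        (LinearMap.lTensor V (π : A →ₐ[k] B).toLinearMap (Comod.coact (k := k) (A := A) v))) =
      LinearMap.lTensor V (CoalgebraStruct.comul (R := k) (A := B))
        (LinearMap.lTensor V (π : A →ₐ[k] B).toLinearMap (Comod.coact (k := k) (A := A) v))
    rw [e1, e3, e2, h1]
  counit_comp := by
    refine LinearMap.ext fun v => ?_
    have h1 := LinearMap.congr_fun (Comod.counit_comp (k := k) (A := A) (V := V)) v
    simp only [LinearMap.coe_comp, Function.comp_apply] at h1 ⊢
    rw [← h1, coactAlong, LinearMap.comp_apply, ← LinearMap.comp_apply, ← LinearMap.lTensor_comp]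
    congr 2
    exact LinearMap.ext fun a => CoalgHomClass.counit_comp_apply π a

/-- The vectors fixed by the subgroup. -/
def fixedAlong : Submodule k V := LinearMap.ker (coactAlong π V - (TensorProduct.mk k V B).flip 1)

theorem mem_fixedAlong {v : V} : v ∈ fixedAlong π V ↔
    LinearMap.lTensor V (π : A →ₐ[k] B).toLinearMap (Comod.coact (k := k) (A := A) v) = v ⊗ₜ[k] (1 : B) := by
  rw [fixedAlong, LinearMap.mem_ker, LinearMap.sub_apply, sub_eq_zero]
  rfl

/-- The subgroup `π` is normal, on points. -/
def IsNormalQuot : Prop :=
  ∀ (R : Type u) [CommRing R] [Algebra k R] (g g' : WithConv (A →ₐ[k] R)) (n : WithConv (B →ₐ[k] R)),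
    g * g' = 1 → g' * g = 1 →
      ∃ n' : WithConv (B →ₐ[k] R), g * toConv (n.ofConv.comp (π : A →ₐ[k] B)) * g' =
        toConv (n'.ofConv.comp (π : A →ₐ[k] B))

variable {π}

theorem lTensor_convMul {R : Type u} [CommRing R] [Algebra k R] (h h' : WithConv (A →ₐ[k] R)) (v : V) :
    LinearMap.lTensor V (h * h').ofConv.toLinearMap (Comod.coact (k := k) (A := A) v) =
      LinearMap.lTensor V (LinearMap.mul' k R ∘ₗ TensorProduct.map h.ofConv.toLinearMap h'.ofConv.toLinearMap)
        (TensorProduct.assoc k V A A
          (LinearMap.rTensor A (Comod.coact (k := k) (A := A)) (Comod.coact (k := k) (A := A) v))) := by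
  have h1 := LinearMap.congr_fun (Comod.coassoc (k := k) (A := A) (V := V)) v
  simp only [LinearMap.coe_comp, Function.comp_apply, LinearEquiv.coe_coe] at h1
  rw [h1]
  conv_rhs => rw [← LinearMap.comp_apply, ← LinearMap.lTensor_comp]
  rfl

theorem isSubcomod_fixedAlong (hN : IsNormalQuot π) : IsSubcomod (k := k) (A := A) (fixedAlong π V) := by
  intro v hv
  rw [mem_fixedAlong] at hv
  let R := B ⊗[k] A
  let g : WithConv (A →ₐ[k] R) := toConv Algebra.TensorProduct.includeRight
  let g' : WithConv (A →ₐ[k] R) := toConv (g.ofConv.comp (HopfAlgebra.antipodeAlgHom k A))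
  have hgg : g * g' = 1 := by
    refine WithConv.ext (AlgHom.ext fun a => ?_)
    show LinearMap.mul' k R (TensorProduct.map g.ofConv.toLinearMap g'.ofConv.toLinearMap
      (CoalgebraStruct.comul (R := k) a)) = algebraMap k R (CoalgebraStruct.counit (R := k) a)
    rw [← AlgHom.commutes g.ofConv, ← HopfAlgebra.mul_antipode_lTensor_comul_apply (R := k) a]
    induction CoalgebraStruct.comul (R := k) a using TensorProduct.induction_on with
    | zero => simp
    | tmul p q => exact (map_mul g.ofConv p (HopfAlgebra.antipode k q)).symm
    | add x y hx hy => simp only [map_add, hx, hy]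
  have hgg' : g' * g = 1 := by
    refine WithConv.ext (AlgHom.ext fun a => ?_)
    show LinearMap.mul' k R (TensorProduct.map g'.ofConv.toLinearMap g.ofConv.toLinearMap
      (CoalgebraStruct.comul (R := k) a)) = algebraMap k R (CoalgebraStruct.counit (R := k) a)
    rw [← AlgHom.commutes g.ofConv, ← HopfAlgebra.mul_antipode_rTensor_comul_apply (R := k) a]
    induction CoalgebraStruct.comul (R := k) a using TensorProduct.induction_on with
    | zero => simp
    | tmul p q => exact (map_mul g.ofConv (HopfAlgebra.antipode k p) q).symm
    | add x y hx hy => simp only [map_add, hx, hy]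
  let n : WithConv (B →ₐ[k] R) := toConv Algebra.TensorProduct.includeLeft
  obtain ⟨n', hn'⟩ := hN R g' g n hgg' hgg
  have key : toConv (n.ofConv.comp (π : A →ₐ[k] B)) * g = g * toConv (n'.ofConv.comp (π : A →ₐ[k] B)) := by
    rw [← hn', ← _root_.mul_assoc, ← _root_.mul_assoc, hgg, _root_.one_mul]
  have hl := lTensor_convMul V (toConv (n.ofConv.comp (π : A →ₐ[k] B))) g v
  rw [key, lTensor_convMul] at hl
  have eR : ∀ z : (V ⊗[k] A) ⊗[k] A,
      LinearMap.lTensor V (LinearMap.mul' k R ∘ₗ TensorProduct.map
        (toConv (n.ofConv.comp (π : A →ₐ[k] B))).ofConv.toLinearMap g.ofConv.toLinearMap)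
        (TensorProduct.assoc k V A A z) =
      TensorProduct.assoc k V B A (LinearMap.rTensor A (LinearMap.lTensor V (π : A →ₐ[k] B).toLinearMap) z) := by
    intro z
    induction z using TensorProduct.induction_on with
    | zero => simp
    | tmul q c =>
      induction q using TensorProduct.induction_on with
      | zero => simp
      | tmul p a =>
        simp only [TensorProduct.assoc_tmul, LinearMap.lTensor_tmul, LinearMap.rTensor_tmul, LinearMap.comp_apply,
          TensorProduct.map_tmul, LinearMap.mul'_apply]
        show p ⊗ₜ[k] (((π : A →ₐ[k] B) a ⊗ₜ[k] (1 : A)) * ((1 : B) ⊗ₜ[k] c)) = _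
        rw [Algebra.TensorProduct.tmul_mul_tmul, _root_.mul_one, _root_.one_mul]
        rfl
      | add x y hx hy => simp only [TensorProduct.add_tmul, map_add, hx, hy]
    | add x y hx hy => simp only [map_add, hx, hy]
  let N : V ⊗[k] B →ₗ[k] V ⊗[k] R := LinearMap.lTensor V (LinearMap.mul' k R) ∘ₗ
    (TensorProduct.assoc k V R R).toLinearMap ∘ₗ
      TensorProduct.map (LinearMap.lTensor V g.ofConv.toLinearMap ∘ₗ Comod.coact (k := k) (A := A))
        n'.ofConv.toLinearMap
  have eL : ∀ y : V ⊗[k] A,
      LinearMap.lTensor V (LinearMap.mul' k R ∘ₗ TensorProduct.map g.ofConv.toLinearMap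
        (toConv (n'.ofConv.comp (π : A →ₐ[k] B))).ofConv.toLinearMap)
        (TensorProduct.assoc k V A A (LinearMap.rTensor A (Comod.coact (k := k) (A := A)) y)) =
      N (LinearMap.lTensor V (π : A →ₐ[k] B).toLinearMap y) := by
    intro y
    induction y using TensorProduct.induction_on with
    | zero => simp
    | tmul p c =>
      simp only [N, LinearMap.rTensor_tmul, LinearMap.lTensor_tmul, LinearMap.comp_apply, TensorProduct.map_tmul,
        LinearEquiv.coe_coe]
      induction Comod.coact (k := k) (A := A) p using TensorProduct.induction_on with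
      | zero => simp
      | tmul q a =>
        simp only [TensorProduct.assoc_tmul, LinearMap.lTensor_tmul, LinearMap.comp_apply, TensorProduct.map_tmul]
        rfl
      | add x y hx hy => simp only [TensorProduct.add_tmul, map_add, hx, hy]
    | add x y hx hy => simp only [map_add, hx, hy]
  rw [eL, eR, hv] at hl
  let j : V →ₗ[k] V ⊗[k] B := (TensorProduct.mk k V B).flip 1
  have eN : N (v ⊗ₜ[k] (1 : B)) =
      TensorProduct.assoc k V B A (LinearMap.rTensor A j (Comod.coact (k := k) (A := A) v)) := by
    simp only [N, LinearMap.comp_apply, TensorProduct.map_tmul, LinearEquiv.coe_coe, AlgHom.toLinearMap_apply,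
      map_one]
    induction Comod.coact (k := k) (A := A) v using TensorProduct.induction_on with
    | zero => simp
    | tmul q a =>
      simp only [LinearMap.lTensor_tmul, LinearMap.rTensor_tmul, TensorProduct.assoc_tmul, LinearMap.mul'_apply,
        _root_.mul_one]
      rfl
    | add x y hx hy => simp only [TensorProduct.add_tmul, map_add, hx, hy]
  rw [eN, ← LinearMap.comp_apply (LinearMap.rTensor A (LinearMap.lTensor V (π : A →ₐ[k] B).toLinearMap)),
    ← LinearMap.rTensor_comp] at hl
  have h0 : LinearMap.rTensor A (coactAlong π V - j) (Comod.coact (k := k) (A := A) v) = 0 := by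
    rw [LinearMap.rTensor_sub, LinearMap.sub_apply, sub_eq_zero]
    exact ((TensorProduct.assoc k V B A).injective hl).symm
  exact (Module.Flat.rTensor_exact A (LinearMap.exact_subtype_ker_map (coactAlong π V - j)) _).1 h0

variable [Module.Finite k V]

theorem fixedAlong_eq_top (hA : IsLinearlyReductive k A) (hB : IsUnipotent k B) (hN : IsNormalQuot π) :
    fixedAlong π V = ⊤ := by
  obtain ⟨C, hC, hWC⟩ := hA V inferInstance (fixedAlong π V) (isSubcomod_fixedAlong V hN)
  suffices C = ⊥ by
    subst this
    exact eq_top_of_isCompl_bot hWC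
  by_contra hne
  haveI : Nontrivial C := Submodule.nontrivial_iff_ne_bot.2 hne
  letI cV : Comod k B V := comodAlong π V
  have hC' : @HopfRep.IsSubcomod k B _ _ _ _ V _ _ cV C := by
    intro c hc
    obtain ⟨z, hz⟩ := hC c hc
    refine ⟨LinearMap.lTensor C (π : A →ₐ[k] B).toLinearMap z, ?_⟩
    show _ = coactAlong π V c
    rw [coactAlong, LinearMap.comp_apply, ← hz, ← LinearMap.comp_apply, LinearMap.rTensor_comp_lTensor,
      ← LinearMap.comp_apply, LinearMap.lTensor_comp_rTensor]
  letI cC : Comod k B C := ComodSub.Comod.restr cV C hC'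
  have hfix := hB C inferInstance inferInstance
  obtain ⟨c, hc, hc0⟩ := (Submodule.ne_bot_iff _).1 hfix
  have hcfix : cC.coact c = c ⊗ₜ[k] (1 : B) := hc
  have hcW : (c : V) ∈ fixedAlong π V := by
    rw [mem_fixedAlong]
    have h2 := ComodSub.restr_coact_coe cV C hC' c
    have h3 : LinearMap.rTensor B C.subtype (cC.coact c) = coactAlong π V (c : V) := h2
    rw [hcfix, LinearMap.rTensor_tmul] at h3
    exact h3.symm
  exact hc0 (Subtype.ext ((Submodule.mem_bot k).1 (hWC.inf_eq_bot ▸ (⟨hcW, c.2⟩ : (c : V) ∈ fixedAlong π V ⊓ C))))

/-- **A normal unipotent subgroup of a linearly reductive group is trivial.** -/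
theorem eq_counit_of_normal_unipotent (hA : IsLinearlyReductive k A) (hB : IsUnipotent k B) (hN : IsNormalQuot π)
    (a : A) : (π : A →ₐ[k] B) a = algebraMap k B (CoalgebraStruct.counit (R := k) a) := by
  let U := gen k A ({a} : Set A)
  haveI : Module.Finite k U := finite_gen (Set.finite_singleton a)
  have hU : IsSubcomod (k := k) (A := A) U := isSubcomod_gen _
  letI cU : Comod k A U := ComodSub.Comod.restr (Comod.regular k A) U hU
  have hv : (⟨a, subset_gen _ rfl⟩ : U) ∈ fixedAlong π U := by
    rw [fixedAlong_eq_top U hA hB hN]; trivial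
  rw [mem_fixedAlong] at hv
  have h2 := congrArg (LinearMap.rTensor B U.subtype) hv
  rw [← LinearMap.comp_apply, LinearMap.rTensor_comp_lTensor, ← LinearMap.lTensor_comp_rTensor,
    LinearMap.comp_apply, LinearMap.rTensor_tmul] at h2
  have hc : LinearMap.rTensor A U.subtype (cU.coact ⟨a, subset_gen _ rfl⟩) = CoalgebraStruct.comul (R := k) a :=
    ComodSub.restr_coact_coe (Comod.regular k A) U hU _
  rw [hc] at h2
  have h3 := congrArg (sliceL (CoalgebraStruct.counit (R := k) (A := A))) h2
  rw [sliceL_lTensor, sliceL_tmul, Submodule.coe_subtype] at h3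
  have h4 : sliceL (CoalgebraStruct.counit (R := k) (A := A)) (CoalgebraStruct.comul (R := k) a) = a := by
    have := Coalgebra.rTensor_counit_comul (R := k) a
    calc sliceL (CoalgebraStruct.counit (R := k) (A := A)) (CoalgebraStruct.comul (R := k) a)
        = TensorProduct.lid k A (LinearMap.rTensor A (CoalgebraStruct.counit (R := k) (A := A))
            (CoalgebraStruct.comul (R := k) a)) := rfl
      _ = a := by rw [this, TensorProduct.lid_tmul, one_smul]
  rw [h4] at h3
  rw [Algebra.algebraMap_eq_smul_one]
  exact h3

end

end Groth.Agent.H20Red
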