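import Groth.Agent.H20Red.Kernel
import Groth.Agent.H20Red.Normal
import Groth.Prelude.Def_CoactBr
import Groth.Prelude.Def_AlgGrp

/-!
Points of an affine group on an arbitrary scheme: they factor through the affinisation.
-/

set_option autoImplicit false
set_option linter.style.haveILetI false
set_option backward.isDefEq.respectTransparency false

universe u

open CategoryTheory MonoidalCategory CartesianMonoidalCategory MonObj GrpObj AlgebraicGeometry
open TensorProduct WithConv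

namespace Groth.Agent.H20Red

theorem toSpecΓ_comp {X : Scheme.{u}} {R : CommRingCat.{u}} (f : X ⟶ Spec R) :
    X.toSpecΓ ≫ Spec.map ((Scheme.ΓSpecIso R).inv ≫ f.appTop) = f := by
  rw [Spec.map_comp, ← Category.assoc, ← Scheme.toSpecΓ_naturality, ← SpecMap_ΓSpecIso_hom, Category.assoc,
    ← Spec.map_comp, Iso.inv_hom_id, Spec.map_id, Category.comp_id]

theorem toSpecΓ_comp_injective {X : Scheme.{u}} {R : CommRingCat.{u}} :
    Function.Injective (fun χ : R ⟶ Γ(X, ⊤) => X.toSpecΓ ≫ Spec.map χ) := by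
  intro χ χ' h
  have h' : ∀ ρ : R ⟶ Γ(X, ⊤), (Scheme.ΓSpecIso R).inv ≫ (X.toSpecΓ ≫ Spec.map ρ).appTop = ρ := fun ρ => by
    rw [Scheme.Hom.comp_appTop, ← Category.assoc, ← Scheme.ΓSpecIso_inv_naturality, Category.assoc,
      Scheme.toSpecΓ_appTop, Iso.inv_hom_id, Category.comp_id]
  rw [← h' χ, ← h' χ']
  exact congrArg (fun g : X ⟶ Spec R => (Scheme.ΓSpecIso R).inv ≫ g.appTop) h

noncomputable section

variable {k : Type u} [CommRing k]

/-- Every point of an affine scheme over `k` on `T` factors uniquely through the affinisation of `T`. -/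
theorem exists_affinization (T : Over (Spec (CommRingCat.of k))) :
    ∃ (_ : Algebra k Γ(T.left, ⊤)) (u : T ⟶ CoactBr.sp k Γ(T.left, ⊤)),
      ∀ (A : Type u) [CommRing A] [Algebra k A],
        Function.Bijective (fun φ : A →ₐ[k] Γ(T.left, ⊤) => u ≫ CoactBr.pt φ) := by
  let ψ := (Scheme.ΓSpecIso (CommRingCat.of k)).inv ≫ T.hom.appTop
  letI alg : Algebra k Γ(T.left, ⊤) := ψ.hom.toAlgebra
  have hu : T.left.toSpecΓ ≫ Spec.map ψ = T.hom := toSpecΓ_comp T.hom
  let u : T ⟶ CoactBr.sp k Γ(T.left, ⊤) := Over.homMk T.left.toSpecΓ hu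
  refine ⟨alg, u, fun A _ _ => ⟨fun φ φ' h => ?_, fun g => ?_⟩⟩
  · have h1 := congrArg CommaMorphism.left h
    exact AlgHom.coe_ringHom_injective (congrArg CommRingCat.Hom.hom (toSpecΓ_comp_injective h1))
  · let χ := (Scheme.ΓSpecIso (CommRingCat.of A)).inv ≫ g.left.appTop
    have hg : T.left.toSpecΓ ≫ Spec.map χ = g.left := toSpecΓ_comp g.left
    have hw : g.left ≫ Spec.map (CommRingCat.ofHom (algebraMap k A)) = T.hom := Over.w g
    have hcomm : CommRingCat.ofHom (algebraMap k A) ≫ χ = ψ := by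
      refine toSpecΓ_comp_injective (X := T.left) ?_
      show T.left.toSpecΓ ≫ Spec.map _ = T.left.toSpecΓ ≫ Spec.map ψ
      rw [Spec.map_comp, ← Category.assoc, hg, hw, hu]
    let φ : A →ₐ[k] Γ(T.left, ⊤) :=
      { χ.hom with commutes' := fun c => congrArg (fun ρ : CommRingCat.of k ⟶ Γ(T.left, ⊤) => ρ.hom c) hcomm }
    exact ⟨φ, Over.OverMorphism.ext hg⟩

variable {A : Type u} [CommRing A] {R : Type u} [CommRing R] [Algebra k R]

theorem pt_convMul [Bialgebra k A] (x y : WithConv (A →ₐ[k] R)) :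
    CoactBr.pt (x * y).ofConv = CoactBr.pt x.ofConv * CoactBr.pt y.ofConv := by
  rw [CoactBr.pt_mul_pt]
  congr 1
  refine AlgHom.ext fun a => ?_
  rw [AlgHom.convMul_apply]
  rfl

theorem pt_convOne [Bialgebra k A] :
    CoactBr.pt (1 : WithConv (A →ₐ[k] R)).ofConv = (1 : CoactBr.sp k R ⟶ CoactBr.sp k A) := by
  rw [CoactBr.one_eq_pt]
  rfl

theorem pt_convPow [Bialgebra k A] (x : WithConv (A →ₐ[k] R)) (n : ℕ) :
    CoactBr.pt (x ^ n).ofConv = CoactBr.pt x.ofConv ^ n := by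
  induction n with
  | zero => rw [pow_zero, pow_zero, pt_convOne]
  | succ n ih => rw [pow_succ, pow_succ, pt_convMul, ih]

theorem eq_pt_of_isoSpec [Algebra k A] (g : CoactBr.sp k R ⟶ CoactBr.sp k A) : ∃ φ : A →ₐ[k] R, CoactBr.pt φ = g := by
  haveI : (algSpec (CommRingCat.of k)).Full := algSpec.instFull
  obtain ⟨f, hf⟩ := (algSpec (CommRingCat.of k)).map_surjective
    (X := Opposite.op (CommAlgCat.of k R)) (Y := Opposite.op (CommAlgCat.of k A)) g
  exact ⟨f.unop.hom, hf⟩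

end

section Normal

variable {k : Type u} [Field k] {A : Type u} [CommRing A] [HopfAlgebra k A]

/-- A bialgebra map gives a homomorphism of groups. -/
theorem isMonHom_pt {B : Type u} [CommRing B] [Bialgebra k B] (π : A →ₐc[k] B) :
    IsMonHom (CoactBr.pt (π : A →ₐ[k] B)) :=
  ((bialgSpec (CommRingCat.of k)).map (Opposite.op (CommBialgCat.ofHom π))).isMonHom_hom

theorem inv_pt_convEq {R : Type u} [CommRing R] [Algebra k R] {g g' : WithConv (A →ₐ[k] R)} (h : g * g' = 1) :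
    (CoactBr.pt g.ofConv)⁻¹ = CoactBr.pt g'.ofConv := by
  refine inv_eq_of_mul_eq_one_right ?_
  rw [← pt_convMul, h, pt_convOne]

variable {B : Type u} [CommRing B] [HopfAlgebra k B] {π : A →ₐc[k] B}

theorem isNormalQuot_of_isNormalHom (hN : AlgGrp.IsNormalHom (CoactBr.pt (π : A →ₐ[k] B))) : IsNormalQuot π := by
  intro R _ _ g g' n hgg _
  obtain ⟨n', hn'⟩ := hN (CoactBr.sp k R) (CoactBr.pt g.ofConv) (CoactBr.pt n.ofConv)
  obtain ⟨ν, rfl⟩ := eq_pt_of_isoSpec n'
  refine ⟨toConv ν, WithConv.ext (CoactBr.pt_injective ?_)⟩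
  rw [pt_convMul, pt_convMul, ← inv_pt_convEq hgg, ofConv_toConv, CoactBr.pt_comp, hn', ofConv_toConv,
    ofConv_toConv, CoactBr.pt_comp]

end Normal

section KerNormal

variable {k : Type u} [Field k] {A : Type u} [CommRing A] [HopfAlgebra k A]

/-- The kernel of the simple comodules is normal. -/
theorem isNormalHom_kerIdeal :
    AlgGrp.IsNormalHom (CoactBr.pt
      ((Bialgebra.Quotient.mkBialgHom (kerIdeal k A) : A →ₐc[k] A ⧸ kerIdeal k A) : A →ₐ[k] A ⧸ kerIdeal k A)) := by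
  intro T g n
  obtain ⟨alg, u, hu⟩ := exists_affinization T
  obtain ⟨a, rfl⟩ := (hu A).2 g
  obtain ⟨b, rfl⟩ := (hu (A ⧸ kerIdeal k A)).2 n
  let π : A →ₐ[k] A ⧸ kerIdeal k A :=
    ((Bialgebra.Quotient.mkBialgHom (kerIdeal k A) : A →ₐc[k] A ⧸ kerIdeal k A) : A →ₐ[k] A ⧸ kerIdeal k A)
  let g' : WithConv (A →ₐ[k] Γ(T.left, ⊤)) := toConv (a.comp (HopfAlgebra.antipodeAlgHom k A))
  have hgg : toConv a * g' = 1 := by
    refine WithConv.ext (CoactBr.pt_injective ?_)
    rw [pt_convMul, pt_convOne, ← mul_inv_cancel (CoactBr.pt a), CoactBr.pt_inv]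
  let c := (toConv a * toConv (b.comp π) * g').ofConv
  have hc : ∀ x ∈ kerIdeal k A, c x = 0 := by
    have hsoc : ∀ x ∈ socle k A, π x = CoalgebraStruct.counit (R := k) x • 1 := fun x hx => mk_socle hx
    exact kerIdeal_le_ker c fun x hx => (conj_apply_socle (toConv a) g' (toConv (b.comp π)) hgg
      (fun y hy => by
        show b (π y) = _
        rw [hsoc y hy, map_smul, map_one, Algebra.algebraMap_eq_smul_one]) hx).trans
      (Algebra.algebraMap_eq_smul_one _)
  refine ⟨u ≫ CoactBr.pt (Ideal.Quotient.liftₐ (kerIdeal k A) c hc), ?_⟩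
  have e : (Ideal.Quotient.liftₐ (kerIdeal k A) c hc).comp π = c := AlgHom.ext fun x => rfl
  rw [Category.assoc, ← CoactBr.pt_comp, Category.assoc, ← CoactBr.pt_comp, e]
  show (u ≫ CoactBr.pt a) * (u ≫ CoactBr.pt (b.comp π)) * (u ≫ CoactBr.pt a)⁻¹ = _
  rw [← GrpObj.comp_inv, ← MonObj.comp_mul, ← MonObj.comp_mul, CoactBr.pt_inv]
  congr 1
  rw [pt_convMul, pt_convMul]

end KerNormal

end Groth.Agent.H20Red
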