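import Groth.Agent.H20Red.LieAlg
import Mathlib.Algebra.Lie.Engel
import Mathlib.Algebra.Lie.OfAssociative
import Mathlib.Algebra.DirectSum.Module
import Mathlib.LinearAlgebra.Eigenspace.Triangularizable
import Mathlib.RingTheory.Bialgebra.MonoidAlgebra
import Mathlib.LinearAlgebra.FreeModule.PID
import Mathlib.RingTheory.Finiteness.Basic

/-!
A connected affine group in characteristic zero without subtorus is unipotent: the generalised eigenspaces
of an invariant derivation grade the coordinate ring by a lattice, which gives a map onto the Hopf algebra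
of a torus.
-/

set_option autoImplicit false
set_option linter.style.haveILetI false
set_option linter.unusedSectionVars false
set_option backward.isDefEq.respectTransparency false

universe u

open TensorProduct HopfRep
open Groth.Agent.H20Comod Groth.Agent.H20Inf

attribute [local instance 100] LieRing.ofAssociativeRing

namespace Groth.Agent.H20Red

noncomputable section

variable {k : Type u} [Field k] {A : Type u} [CommRing A] [HopfAlgebra k A]

/-- The left slice of the comultiplication by a linear form. -/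
def lslice (g : A →ₗ[k] k) : Module.End k A := sliceL g ∘ₗ CoalgebraStruct.comul (R := k)

theorem commute_lslice (x : LieG k A) (g : A →ₗ[k] k) : Commute (x.1 : Module.End k A) (lslice g) := by
  rw [coe_eq_actL x]
  refine LinearMap.ext fun a => ?_
  exact actL_coef (form x) g a

theorem counit_lslice (g : A →ₗ[k] k) (a : A) :
    CoalgebraStruct.counit (R := k) (lslice g a) = g a := by
  show CoalgebraStruct.counit (R := k) (sliceL g (Comod.coact (k := k) (A := A) a)) = g a
  rw [← apply_sliceR_eq_apply_sliceL, ← actL_apply, actL_counit]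

theorem leibniz (x : LieG k A) (a b : A) : x.1 (a * b) = a * x.1 b + b * x.1 a := by
  obtain ⟨ξ, hξ⟩ := x.2
  rw [← hξ]
  exact actL_lin_mul ξ a b

theorem apply_one (x : LieG k A) : x.1 (1 : A) = 0 := by
  obtain ⟨ξ, hξ⟩ := x.2
  rw [← hξ]
  exact actL_lin_one ξ

/-- The generalised eigenspaces of an invariant derivation. -/
abbrev gsp (x : LieG k A) (μ : k) : Submodule k A := Module.End.maxGenEigenspace (x.1 : Module.End k A) μ

theorem one_mem_gsp (x : LieG k A) : (1 : A) ∈ gsp x 0 := by
  rw [Module.End.mem_maxGenEigenspace]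
  exact ⟨1, by simp [apply_one x]⟩

theorem pow_apply_mul_eq_zero (x : LieG k A) (μ ν : k) : ∀ (N n m : ℕ) (a b : A), n + m ≤ N →
    ((x.1 - μ • (1 : Module.End k A)) ^ n) a = 0 → ((x.1 - ν • (1 : Module.End k A)) ^ m) b = 0 →
      ((x.1 - (μ + ν) • (1 : Module.End k A)) ^ N) (a * b) = 0 := by
  intro N
  induction N with
  | zero =>
    intro n m a b h ha hb
    obtain ⟨rfl, rfl⟩ : n = 0 ∧ m = 0 := by omega
    simp only [pow_zero, Module.End.one_apply] at ha
    simp [ha]
  | succ N ih =>
    intro n m a b h ha hb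
    rcases n with _ | n
    · simp only [pow_zero, Module.End.one_apply] at ha
      simp [ha]
    rcases m with _ | m
    · simp only [pow_zero, Module.End.one_apply] at hb
      simp [hb]
    have e : (x.1 - (μ + ν) • (1 : Module.End k A)) (a * b) =
        (x.1 - μ • (1 : Module.End k A)) a * b + a * (x.1 - ν • (1 : Module.End k A)) b := by
      simp only [LinearMap.sub_apply, LinearMap.add_apply, LinearMap.smul_apply, Module.End.one_apply, leibniz,
        add_smul, sub_mul, mul_sub, smul_mul_assoc, mul_smul_comm]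
      ring
    rw [pow_succ, Module.End.mul_apply, e, map_add,
      ih n (m + 1) _ b (by omega) (by rw [← Module.End.mul_apply, ← pow_succ]; exact ha) hb,
      ih (n + 1) m a _ (by omega) ha (by rw [← Module.End.mul_apply, ← pow_succ]; exact hb), add_zero]

theorem mul_mem_gsp (x : LieG k A) {μ ν : k} {a b : A} (ha : a ∈ gsp x μ) (hb : b ∈ gsp x ν) :
    a * b ∈ gsp x (μ + ν) := by
  rw [Module.End.mem_maxGenEigenspace] at ha hb ⊢
  obtain ⟨n, hn⟩ := ha
  obtain ⟨m, hm⟩ := hb
  exact ⟨n + m, pow_apply_mul_eq_zero x μ ν _ n m a b le_rfl hn hm⟩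

theorem lslice_mem_gsp (x : LieG k A) (g : A →ₗ[k] k) {μ : k} {a : A} (ha : a ∈ gsp x μ) :
    lslice g a ∈ gsp x μ :=
  Module.End.mapsTo_maxGenEigenspace_of_comm (commute_lslice x g) μ ha

theorem exists_counit_ne_zero (x : LieG k A) {μ : k} (h : gsp x μ ≠ ⊥) :
    ∃ a ∈ gsp x μ, CoalgebraStruct.counit (R := k) a ≠ 0 := by
  by_contra hc
  push Not at hc
  refine h ((Submodule.eq_bot_iff _).2 fun a ha => ?_)
  refine (Module.forall_dual_apply_eq_zero_iff k a).1 fun g => ?_
  rw [← counit_lslice g a]
  exact hc _ (lslice_mem_gsp x g ha)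

theorem iSup_gsp_eq_top [IsAlgClosed k] (x : LieG k A) : ⨆ μ, gsp x μ = ⊤ := by
  refine eq_top_iff.2 fun a _ => ?_
  let W := gen k A ({a} : Set A)
  haveI : Module.Finite k W := finite_gen (Set.finite_singleton a)
  have hW : Set.MapsTo (x.1 : Module.End k A) W W := fun b hb => by
    rw [coe_eq_actL x]
    exact actL_mem_of_isSubcomod (isSubcomod_gen _) (form x) hb
  have h := Module.End.iSup_maxGenEigenspace_eq_top (LinearMap.restrict (x.1 : Module.End k A) hW)
  have hle : Submodule.map W.subtype (⊤ : Submodule k W) ≤ ⨆ μ, gsp x μ := by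
    rw [← h, Submodule.map_iSup]
    refine iSup_mono fun μ => ?_
    rw [Module.End.maxGenEigenspace, Module.End.genEigenspace_restrict, Submodule.map_comap_eq]
    exact inf_le_right
  exact hle ⟨⟨a, subset_gen _ rfl⟩, Submodule.mem_top, rfl⟩

theorem exists_finite_gsp [IsAlgClosed k] [Algebra.FiniteType k A] (x : LieG k A) :
    ∃ t : Finset k, (∀ μ ∈ t, gsp x μ ≠ ⊥) ∧
      ⨆ μ : AddSubgroup.closure (t : Set k), gsp x (μ : k) = ⊤ := by
  classical
  obtain ⟨s, hs⟩ := (Algebra.FiniteType.out : (⊤ : Subalgebra k A).FG)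
  have hmem : ∀ a : A, ∃ t : Finset k, a ∈ ⨆ μ ∈ t, gsp x μ := fun a =>
    Submodule.mem_iSup_iff_exists_finset.1 (by rw [iSup_gsp_eq_top x]; trivial)
  choose T hT using hmem
  let t : Finset k := (s.biUnion T).filter fun μ => gsp x μ ≠ ⊥
  refine ⟨t, fun μ hμ => (Finset.mem_filter.1 hμ).2, ?_⟩
  set Λ := AddSubgroup.closure (t : Set k)
  set P := ⨆ μ : Λ, gsp x (μ : k)
  have h1 : (1 : A) ∈ P := Submodule.mem_iSup_of_mem (0 : Λ) (one_mem_gsp x)
  have hmul : ∀ a b, a ∈ P → b ∈ P → a * b ∈ P := by
    intro a b ha hb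
    induction ha using Submodule.iSup_induction' with
    | mem μ a ha =>
      induction hb using Submodule.iSup_induction' with
      | mem ν b hb => exact Submodule.mem_iSup_of_mem (μ + ν) (mul_mem_gsp x ha hb)
      | zero => rw [mul_zero]; exact zero_mem _
      | add u v _ _ hu hv => rw [mul_add]; exact add_mem hu hv
    | zero => rw [zero_mul]; exact zero_mem _
    | add u v _ _ hu hv => rw [add_mul]; exact add_mem hu hv
  have hle : Algebra.adjoin k (s : Set A) ≤ P.toSubalgebra h1 hmul := by
    refine Algebra.adjoin_le fun a ha => ?_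
    have h : (⨆ μ ∈ T a, gsp x μ) ≤ P := by
      refine iSup₂_le fun μ hμ => ?_
      by_cases hb : gsp x μ = ⊥
      · rw [hb]; exact bot_le
      · have : μ ∈ Λ := AddSubgroup.subset_closure
          (Finset.mem_filter.2 ⟨Finset.mem_biUnion.2 ⟨a, ha, hμ⟩, hb⟩)
        exact le_iSup (fun μ : Λ => gsp x (μ : k)) ⟨μ, this⟩
    exact h (hT a)
  rw [hs] at hle
  exact eq_top_iff.2 fun a _ => hle (Algebra.mem_top (R := k) (A := A) (x := a))

theorem mem_range_of_closure {G : Type u} [AddCommGroup G] {P : Type u} [CommRing P] [Algebra k P] (t : Set G)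
    (ex : AddSubgroup.closure t → P) (hex : ∀ μ ν, ex (μ + ν) = ex μ * ex ν) (hex0 : ex 0 = 1) (F : A →ₐ[k] P)
    (h : ∀ z ∈ t, ∃ (a b : A) (c : k), c ≠ 0 ∧
      ∀ hz : z ∈ AddSubgroup.closure t, F a = c • ex ⟨z, hz⟩ ∧ F b * ex ⟨z, hz⟩ = c • 1)
    (μ : AddSubgroup.closure t) : ex μ ∈ F.range := by
  have key : ∀ (y : G) (hy : y ∈ AddSubgroup.closure t), ex ⟨y, hy⟩ ∈ F.range ∧ ex (- ⟨y, hy⟩) ∈ F.range := by
    intro y hy
    induction hy using AddSubgroup.closure_induction with
    | mem z hz =>
      obtain ⟨a, b, c, hc, h'⟩ := h z hz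
      obtain ⟨e1, e2⟩ := h' (AddSubgroup.subset_closure hz)
      refine ⟨⟨c⁻¹ • a, ?_⟩, ⟨c⁻¹ • b, ?_⟩⟩
      · show F _ = _
        rw [map_smul, e1, inv_smul_smul₀ hc]
      · show F _ = _
        set w : AddSubgroup.closure t := ⟨z, AddSubgroup.subset_closure hz⟩
        have e3 : F b = c • ex (-w) := by
          calc F b = F b * (ex w * ex (-w)) := by rw [← hex, add_neg_cancel, hex0, mul_one]
            _ = _ := by rw [← mul_assoc, e2, smul_mul_assoc, one_mul]
        rw [map_smul, e3, inv_smul_smul₀ hc]
    | zero =>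
      refine ⟨?_, ?_⟩
      · show ex 0 ∈ F.range
        rw [hex0]; exact one_mem _
      · show ex (-0) ∈ F.range
        rw [neg_zero, hex0]; exact one_mem _
    | add u v hu hv ihu ihv =>
      refine ⟨?_, ?_⟩
      · show ex ((⟨u, hu⟩ : AddSubgroup.closure t) + ⟨v, hv⟩) ∈ F.range
        rw [hex]; exact mul_mem ihu.1 ihv.1
      · show ex (-((⟨u, hu⟩ : AddSubgroup.closure t) + ⟨v, hv⟩)) ∈ F.range
        rw [neg_add, hex]; exact mul_mem ihu.2 ihv.2
    | neg u hu ihu =>
      refine ⟨ihu.2, ?_⟩
      show ex (- -(⟨u, hu⟩ : AddSubgroup.closure t)) ∈ F.range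
      rw [neg_neg]; exact ihu.1
  exact (key μ.1 μ.2).1

/-- An invariant derivation gives a map onto the Hopf algebra of a torus, trivial only if it is locally nilpotent. -/
theorem exists_torus [IsAlgClosed k] [CharZero k] [Algebra.FiniteType k A] (x : LieG k A) :
    ∃ (r : ℕ) (φ : A →ₐc[k] MonoidAlgebra k (Multiplicative (Fin r → ℤ))),
      Function.Surjective φ ∧ (r = 0 → gsp x 0 = ⊤) := by
  classical
  obtain ⟨t, ht, htop⟩ := exists_finite_gsp x
  set Λ := AddSubgroup.closure (t : Set k)
  haveI : AddGroup.FG Λ := (AddGroup.fg_iff_addSubgroup_fg _).2 ⟨t, rfl⟩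
  haveI : Module.Finite ℤ Λ := Module.Finite.iff_addGroup_fg.2 inferInstance
  let e : Λ ≃ₗ[ℤ] (Fin (Module.finrank ℤ Λ) → ℤ) := (Module.finBasis ℤ Λ).equivFun
  refine ⟨Module.finrank ℤ Λ, ?_⟩
  set r := Module.finrank ℤ Λ
  let P := MonoidAlgebra k (Multiplicative (Fin r → ℤ))
  let ex : Λ → P := fun μ => MonoidAlgebra.single (Multiplicative.ofAdd (e μ)) 1
  have hex : ∀ μ ν, ex (μ + ν) = ex μ * ex ν := fun μ ν => by
    simp only [ex, map_add, ofAdd_add]
    rw [MonoidAlgebra.single_mul_single, mul_one]
  have hex0 : ex 0 = 1 := by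
    simp only [ex, map_zero, ofAdd_zero]
    exact MonoidAlgebra.one_def.symm
  have hint : DirectSum.IsInternal (fun μ : Λ => gsp x (μ : k)) :=
    DirectSum.isInternal_submodule_of_iSupIndep_of_iSup_eq_top
      ((Module.End.independent_maxGenEigenspace (x.1 : Module.End k A)).comp Subtype.val_injective) htop
  let dec := LinearEquiv.ofBijective (DirectSum.coeLinearMap fun μ : Λ => gsp x (μ : k)) hint
  let f : A →ₗ[k] P := (DirectSum.toModule k Λ P fun μ =>
    (LinearMap.toSpanSingleton k P (ex μ)) ∘ₗ CoalgebraStruct.counit (R := k) ∘ₗ (gsp x (μ : k)).subtype) ∘ₗ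
      dec.symm.toLinearMap
  have hf : ∀ (μ : Λ) (a : A), a ∈ gsp x (μ : k) → f a = CoalgebraStruct.counit (R := k) a • ex μ := by
    intro μ a ha
    have h : dec.symm a = DirectSum.lof k Λ _ μ ⟨a, ha⟩ := by
      refine dec.injective ?_
      rw [LinearEquiv.apply_symm_apply]
      exact (DirectSum.coeLinearMap_of _ μ ⟨a, ha⟩).symm
    show (DirectSum.toModule k Λ P _) (dec.symm a) = _
    rw [h, DirectSum.toModule_lof]
    rfl
  have hmem : ∀ a : A, a ∈ ⨆ μ : Λ, gsp x (μ : k) := fun a => by rw [htop]; trivial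
  let F : A →ₐ[k] P := AlgHom.ofLinearMap f
    (by rw [hf 0 1 (one_mem_gsp x), Bialgebra.counit_one, one_smul, hex0])
    (fun a b => by
      induction hmem a using Submodule.iSup_induction' with
      | mem μ a ha =>
        induction hmem b using Submodule.iSup_induction' with
        | mem ν b hb =>
          rw [hf (μ + ν) _ (mul_mem_gsp x ha hb), hf μ a ha, hf ν b hb, Bialgebra.counit_mul, hex,
            smul_mul_smul_comm]
        | zero => simp
        | add u v _ _ hu hv => rw [mul_add, map_add, map_add, hu, hv, mul_add]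
      | zero => simp
      | add u v _ _ hu hv => rw [add_mul, map_add, map_add, hu, hv, add_mul])
  have hF : ∀ (μ : Λ) (a : A), a ∈ gsp x (μ : k) → F a = CoalgebraStruct.counit (R := k) a • ex μ := hf
  have hright : ∀ (μ : Λ) (a : A), a ∈ gsp x (μ : k) →
      LinearMap.lTensor A f (CoalgebraStruct.comul (R := k) a) = a ⊗ₜ[k] ex μ := by
    intro μ a ha
    refine eq_of_forall_sliceL fun g => ?_
    rw [sliceL_lTensor, sliceL_tmul]
    show f (lslice g a) = _
    rw [hf μ _ (lslice_mem_gsp x g ha), counit_lslice]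
  let φ : A →ₐc[k] P := BialgHom.ofAlgHom F
    (AlgHom.toLinearMap_injective (LinearMap.ext fun a => by
      induction hmem a using Submodule.iSup_induction' with
      | mem μ a ha =>
        show CoalgebraStruct.counit (R := k) (F a) = CoalgebraStruct.counit (R := k) a
        rw [hF μ a ha, map_smul, MonoidAlgebra.counit_single, CommSemiring.counit_apply, smul_eq_mul, mul_one]
      | zero => simp
      | add u v _ _ hu hv => simp only [map_add, hu, hv]))
    (AlgHom.toLinearMap_injective (LinearMap.ext fun a => by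
      induction hmem a using Submodule.iSup_induction' with
      | mem μ a ha =>
        show TensorProduct.map f f (CoalgebraStruct.comul (R := k) a) = CoalgebraStruct.comul (R := k) (F a)
        rw [show TensorProduct.map f f (CoalgebraStruct.comul (R := k) a) =
          LinearMap.rTensor P f (LinearMap.lTensor A f (CoalgebraStruct.comul (R := k) a)) from
          (LinearMap.congr_fun (LinearMap.rTensor_comp_lTensor (f := f) (g := f)) _).symm, hright μ a ha, LinearMap.rTensor_tmul, hf μ a ha, hF μ a ha,
          map_smul, MonoidAlgebra.comul_single, CommSemiring.comul_apply, TensorProduct.map_tmul,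
          ← TensorProduct.smul_tmul']
        rfl
      | zero => simp
      | add u v _ _ hu hv => simp only [map_add, hu, hv]))
  refine ⟨φ, ?_, ?_⟩
  · have hneg : ∀ (μ : Λ) (a : A), a ∈ gsp x (μ : k) →
        f (HopfAlgebra.antipode k a) * ex μ = CoalgebraStruct.counit (R := k) a • (1 : P) := by
      intro μ a ha
      have h2 : ∀ z : A ⊗[k] A, F (LinearMap.mul' k A (LinearMap.rTensor A (HopfAlgebra.antipode k) z)) =
          LinearMap.mul' k P (LinearMap.rTensor P (f ∘ₗ HopfAlgebra.antipode k) (LinearMap.lTensor A f z)) := by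
        intro z
        induction z using TensorProduct.induction_on with
        | zero => simp
        | tmul p q => exact map_mul F _ _
        | add u v hu hv => simp only [map_add, hu, hv]
      have h1 := h2 (CoalgebraStruct.comul (R := k) a)
      rw [HopfAlgebra.mul_antipode_rTensor_comul_apply, AlgHom.commutes, hright μ a ha, LinearMap.rTensor_tmul,
        LinearMap.mul'_apply, Algebra.algebraMap_eq_smul_one] at h1
      exact h1.symm
    have hgen : ∀ μ : Λ, ex μ ∈ F.range := by
      refine mem_range_of_closure (t : Set k) ex hex hex0 F fun z hz => ?_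
      obtain ⟨a, ha, hne⟩ := exists_counit_ne_zero x (ht z hz)
      refine ⟨a, HopfAlgebra.antipode k a, CoalgebraStruct.counit (R := k) a, hne, fun hz' => ⟨hF ⟨z, hz'⟩ a ha, ?_⟩⟩
      exact hneg ⟨z, hz'⟩ a ha
    intro p
    have hp : p ∈ F.range := by
      induction p using MonoidAlgebra.induction_linear with
      | zero => exact zero_mem _
      | add u v hu hv => exact add_mem hu hv
      | single m c =>
        have := Subalgebra.smul_mem _ (hgen (e.symm m.toAdd)) c
        have hm : c • ex (e.symm m.toAdd) = MonoidAlgebra.single m c := by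
          simp only [ex, LinearEquiv.apply_symm_apply, ofAdd_toAdd]
          exact (MonoidAlgebra.smul_single' c m (1 : k)).trans (by rw [mul_one])
        rwa [hm] at this
    obtain ⟨a, rfl⟩ := hp
    exact ⟨a, rfl⟩
  · intro hr
    haveI : IsEmpty (Fin r) := by rw [hr]; infer_instance
    haveI : Subsingleton Λ := e.toEquiv.subsingleton
    rw [← htop]
    refine le_antisymm (le_iSup (fun μ : Λ => gsp x (μ : k)) 0) (iSup_le fun μ => ?_)
    rw [Subsingleton.elim μ 0]
    rfl

variable [IsDomain A] [CharZero k] [Algebra.FiniteType k A]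

/-- Characteristic zero, connected, no torus quotient of the coordinate ring: unipotent. -/
theorem isUnipotent_of_forall_torus [IsAlgClosed k]
    (h : ∀ (r : ℕ) (φ : A →ₐc[k] MonoidAlgebra k (Multiplicative (Fin r → ℤ))), Function.Surjective φ → r = 0) :
    IsUnipotent k A := by
  intro V _ _ _ _ hnt
  classical
  letI : LieRingModule (LieG k A) V := LieRingModule.compLieHom V (rho k A V)
  haveI : LieModule k (LieG k A) V := LieModule.compLieHom V (rho k A V)
  have htoEnd : ∀ x : LieG k A, LieModule.toEnd k (LieG k A) V x = rho k A V x := fun x => rfl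
  have hnil : ∀ x : LieG k A, IsNilpotent (LieModule.toEnd k (LieG k A) V x) := by
    intro x
    obtain ⟨r, φ, hφ, hr⟩ := exists_torus x
    have hloc : ∀ a : A, ∃ n, ((x.1 : Module.End k A) ^ n) a = 0 := fun a => by
      have : a ∈ gsp x 0 := by rw [hr (h r φ hφ)]; trivial
      obtain ⟨n, hn⟩ := (Module.End.mem_maxGenEigenspace _ _ _).1 this
      exact ⟨n, by simpa using hn⟩
    let b := Module.finBasis k V
    choose n hn using fun (p : Fin (Module.finrank k V) × Fin (Module.finrank k V)) =>
      hloc (sliceL (b.coord p.2) (Comod.coact (k := k) (A := A) (b p.1)))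
    refine ⟨Finset.univ.sup n, ?_⟩
    rw [htoEnd]
    refine b.ext fun i => b.ext_elem fun j => ?_
    have hcomm : ∀ (N : ℕ) (v : V), ((x.1 : Module.End k A) ^ N) (sliceL (b.coord j) (Comod.coact (k := k) (A := A) v)) =
        sliceL (b.coord j) (Comod.coact (k := k) (A := A) (((rho k A V x) ^ N) v)) := by
      intro N
      induction N with
      | zero => intro v; rfl
      | succ N ih =>
        intro v
        rw [pow_succ', Module.End.mul_apply, ih, pow_succ', Module.End.mul_apply, coe_eq_actL x, actL_coef]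
        rfl
    have h0 : ((x.1 : Module.End k A) ^ Finset.univ.sup n) (sliceL (b.coord j) (Comod.coact (k := k) (A := A) (b i))) = 0 :=
      Module.End.pow_map_zero_of_le (Finset.le_sup (Finset.mem_univ (i, j))) (hn (i, j))
    rw [hcomm] at h0
    have h1 := congrArg (CoalgebraStruct.counit (R := k)) h0
    rw [← apply_sliceR_eq_apply_sliceL, ← actL_apply, actL_counit, map_zero] at h1
    simpa using h1
  haveI : LieModule.IsNilpotent (LieG k A) V :=
    (LieModule.isNilpotent_iff_forall' (R := k)).2 hnil
  haveI := LieModule.nontrivial_max_triv_of_isNilpotent k (LieG k A) V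
  obtain ⟨⟨v, hv⟩, hv0⟩ := exists_ne (0 : LieModule.maxTrivSubmodule k (LieG k A) V)
  intro hbot
  refine hv0 (Subtype.ext ?_)
  have hfix : v ∈ fixedPts k A V := coact_eq_of_forall_rho fun x => (LieModule.mem_maxTrivSubmodule (R := k) (LieG k A) V v).1 hv x
  rw [hbot, Submodule.mem_bot] at hfix
  exact hfix

end

end Groth.Agent.H20Red
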