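import Groth.Agent.H20Red.Main
import Groth.Agent.H20Red.Unipotent
import Groth.Agent.H20Red.Points
import Groth.Agent.H20Comod.UniPow
import Groth.Agent.H21Hom.SpecGrp
import Groth.Agent.H21Weil.NoTorus
import Groth.Agent.H27Witt.DiagFn
import Groth.Agent.H19Grp.Cartier
import Groth.Agent.H19Grp.GeomConnected
import Groth.Agent.H28NT.GoodReduction
import Groth.Agent.H13AlgSp.EtaleLocally
import Groth.Agent.S18813

/-!
In characteristic zero a connected affine group is reductive if and only if it is linearly reductive.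
-/

set_option autoImplicit false
set_option linter.style.haveILetI false
set_option linter.unusedSectionVars false
set_option backward.isDefEq.respectTransparency false

universe u

open CategoryTheory MonoidalCategory CartesianMonoidalCategory MonObj GrpObj AlgebraicGeometry
open TensorProduct WithConv HopfRep
open Groth.Agent.H20Comod

namespace Groth.Agent.H20Red

noncomputable section

variable {k : Type u} [Field k]

section General

variable {A : Type u} [CommRing A] [HopfAlgebra k A]

theorem one_left_comp_hom :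
    η[CoactBr.sp k A].left ≫ (CoactBr.sp k A).hom = 𝟙 (Spec (CommRingCat.of k)) :=
  Over.w η[CoactBr.sp k A]

theorem locallyOfFiniteType_sp [Algebra.FiniteType k A] : LocallyOfFiniteType (CoactBr.sp k A).hom :=
  inferInstanceAs (LocallyOfFiniteType ((Spec (CommRingCat.of A)) ↘ (Spec (CommRingCat.of k))))

theorem geometricallyConnected_sp [ConnectedSpace ↥(Spec (CommRingCat.of A))] :
    GeometricallyConnected (CoactBr.sp k A).hom := by
  haveI : ConnectedSpace ↥(CoactBr.sp k A).left := inferInstanceAs (ConnectedSpace ↥(Spec (CommRingCat.of A)))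
  exact H28NT.geometricallyConnected_of_section _ η[CoactBr.sp k A].left one_left_comp_hom

/-- A connected affine group in characteristic zero has a domain as coordinate ring. -/
theorem isDomain_of_connected [CharZero k] [Algebra.FiniteType k A] [ConnectedSpace ↥(Spec (CommRingCat.of A))] :
    IsDomain A := by
  haveI := locallyOfFiniteType_sp (k := k) (A := A)
  haveI := geometricallyConnected_sp (k := k) (A := A)
  haveI := H19Grp.geometricallyIrreducible_of_geometricallyConnected (CoactBr.sp k A)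
  haveI : IrreducibleSpace ↥(CoactBr.sp k A).left :=
    GeometricallyIrreducible.irreducibleSpace_of_subsingleton (CoactBr.sp k A).hom
  haveI : Smooth (CoactBr.sp k A).hom := H19Grp.smooth_of_charZero _
  haveI : IsReduced (CoactBr.sp k A).left := H13AlgSp.isReduced_of_smooth_mor (CoactBr.sp k A).hom
  haveI : IrreducibleSpace ↥(Spec (CommRingCat.of A)) := inferInstanceAs (IrreducibleSpace ↥(CoactBr.sp k A).left)
  haveI : IsReduced (Spec (CommRingCat.of A)) := inferInstanceAs (IsReduced (CoactBr.sp k A).left)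
  haveI : IsIntegral (Spec (CommRingCat.of A)) := isIntegral_of_irreducibleSpace_of_isReduced _
  exact (affine_isIntegral_iff (CommRingCat.of A)).1 inferInstance

end General

section Unipotent

variable {B : Type u} [CommRing B] [HopfAlgebra k B] [CharZero k]

theorem idempotent_polynomial_eq_C {S : Type u} [CommRing S] {p : Polynomial S} (hp : IsIdempotentElem p) :
    p = Polynomial.C (p.coeff 0) := by
  set c := p.coeff 0 with hc
  have hc2 : c * c = c := by rw [hc, ← Polynomial.mul_coeff_zero, hp.eq]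
  have hC : Polynomial.C c * Polynomial.C c = Polynomial.C c := by rw [← map_mul, hc2]
  set q := p - Polynomial.C c with hq
  have h3 : q * (1 - q * q) = 0 := by
    have hp' : p * p = p := hp.eq
    rw [hq]
    linear_combination (-p - 1 + 3 * Polynomial.C c) * hp' + (1 + Polynomial.C c - 3 * p) * hC
  have h0 : q.coeff 0 = 0 := by rw [hq, Polynomial.coeff_sub, Polynomial.coeff_C_zero, hc, sub_self]
  have hall : ∀ n, q.coeff n = 0 := by
    intro n
    induction n using Nat.strong_induction_on with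
    | _ n ih =>
      have e := congrArg (fun r => Polynomial.coeff r n) h3
      simp only [mul_sub, Polynomial.coeff_sub, Polynomial.coeff_zero] at e
      have hz : (q * (q * q)).coeff n = 0 := by
        rw [Polynomial.coeff_mul]
        refine Finset.sum_eq_zero fun ij hij => ?_
        rcases Nat.lt_or_ge ij.1 n with h | h
        · rw [ih _ h, zero_mul]
        · have : ij.2 = 0 := by have := Finset.HasAntidiagonal.mem_antidiagonal.1 hij; omega
          rw [this, Polynomial.mul_coeff_zero, h0, zero_mul, mul_zero]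
      rw [hz, sub_zero, _root_.mul_one] at e
      exact e
  rw [← sub_eq_zero]
  exact Polynomial.ext fun n => (hall n).trans (Polynomial.coeff_zero n).symm

theorem eval_powPoly_zero {S : Type u} [CommRing S] [Algebra k S] (hU : IsUnipotent k B)
    (g : WithConv (B →ₐ[k] S)) (a : B) :
    (powPoly hU g a).eval 0 = algebraMap k S (CoalgebraStruct.counit (R := k) a) := by
  have := powPoly_eval hU g a 0
  rw [Nat.cast_zero, pow_zero] at this
  exact this

theorem connectedSpace_of_isUnipotent (hU : IsUnipotent k B) : ConnectedSpace ↥(Spec (CommRingCat.of B)) := by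
  haveI : Nontrivial B :=
    (RingHom.domain_nontrivial (Bialgebra.counitAlgHom k B).toRingHom)
  have hid : ∀ e : B, IsIdempotentElem e → e = 0 ∨ e = 1 := by
    intro e he
    let g : WithConv (B →ₐ[k] B) := toConv (AlgHom.id k B)
    have h1 := idempotent_polynomial_eq_C (he.map (powPoly hU g))
    have hg : (powPoly hU g e).eval 1 = e := by
      have := powPoly_eval hU g e 1
      rw [Nat.cast_one, pow_one] at this
      exact this
    have h0 := eval_powPoly_zero hU g e
    rw [h1, Polynomial.eval_C] at hg h0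
    rw [← hg, h0]
    have hε : IsIdempotentElem (CoalgebraStruct.counit (R := k) e) := he.map (Bialgebra.counitAlgHom k B)
    rcases IsIdempotentElem.iff_eq_zero_or_one.1 hε with h | h <;> rw [h]
    · exact Or.inl (map_zero _)
    · exact Or.inr (map_one _)
  haveI : Nonempty ↥(Spec (CommRingCat.of B)) := inferInstanceAs (Nonempty (PrimeSpectrum B))
  refine connectedSpace_iff_clopen.2 ⟨inferInstance, fun s hs => ?_⟩
  obtain ⟨e, he, rfl⟩ := PrimeSpectrum.isClopen_iff.1 hs
  rcases hid e he with rfl | rfl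
  · exact Or.inl (by simp)
  · exact Or.inr (by simp)

theorem eq_one_of_pow_eq_one {R : Type u} [CommRing R] [Algebra k R] (hU : IsUnipotent k B)
    (g : WithConv (B →ₐ[k] R)) (ℓ : ℕ) (hℓ : IsUnit (ℓ : R)) (hg : g ^ ℓ = 1) : g = 1 := by
  refine WithConv.ext (AlgHom.ext fun a => ?_)
  obtain ⟨v, hv⟩ := hℓ
  set p := powPoly hU g a
  set c := (1 : WithConv (B →ₐ[k] R)).ofConv a
  have h1 : p.comp (Polynomial.C (ℓ : R) * Polynomial.X) = Polynomial.C c := by
    refine polynomial_eq_of_forall_eval_natCast k fun N => ?_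
    rw [Polynomial.eval_comp, Polynomial.eval_C, Polynomial.eval_mul, Polynomial.eval_C, Polynomial.eval_X,
      ← Nat.cast_mul, powPoly_eval, pow_mul, hg, one_pow]
  have h2 : p = Polynomial.C c := by
    have := congrArg (fun r => r.comp (Polynomial.C (↑v⁻¹ : R) * Polynomial.X)) h1
    simp only [Polynomial.comp_assoc, Polynomial.mul_comp, Polynomial.C_comp, Polynomial.X_comp] at this
    rw [← _root_.mul_assoc, ← map_mul, ← hv, Units.mul_inv, map_one, _root_.one_mul, Polynomial.comp_X] at this
    exact this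
  have h3 := powPoly_eval hU g a 1
  rw [Nat.cast_one, pow_one, show powPoly hU g a = Polynomial.C c from h2, Polynomial.eval_C] at h3
  exact h3.symm

end Unipotent

section BaseChangeLemmas

theorem isNormalHom_bcMap {S S' : Scheme.{u}} (z : S' ⟶ S) {N G : Over S} [GrpObj N] [GrpObj G] (i : N ⟶ G)
    (hi : AlgGrp.IsNormalHom i) :
    AlgGrp.IsNormalHom ((Over.pullback z).map i : Red.bc z N ⟶ Red.bc z G) := by
  intro T g n
  have key : ∀ c : T ⟶ Red.bc z N,
      c ≫ (Over.pullback z).map i = H21Diag.bcEquiv z G T ((H21Diag.bcEquiv z N T).symm c ≫ i) := fun c => by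
    refine Eq.trans ?_ ((Over.mapPullbackAdj z).homEquiv_naturality_right _ i).symm
    exact congrArg (· ≫ (Over.pullback z).map i) ((H21Diag.bcEquiv z N T).apply_symm_apply c).symm
  obtain ⟨n', hn'⟩ := hi _ ((H21Diag.bcEquiv z G T).symm g) ((H21Diag.bcEquiv z N T).symm n)
  refine ⟨H21Diag.bcEquiv z N T n', ?_⟩
  let φ : ((Over.map z).obj T ⟶ G) →* (T ⟶ Red.bc z G) :=
    MonoidHom.mk' (H21Diag.bcEquiv z G T) (H21Diag.bcEquiv_mul z G T)
  have hg : φ ((H21Diag.bcEquiv z G T).symm g) = g := Equiv.apply_symm_apply _ _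
  rw [key, key, Equiv.symm_apply_apply, ← hn']
  conv_lhs => rw [← hg]
  show φ _ * φ _ * (φ _)⁻¹ = φ _
  rw [← map_inv, ← map_mul, ← map_mul]

theorem hasNoSubtorus_bc_of_isUnipotent {B : Type u} [CommRing B] [HopfAlgebra k B] [CharZero k]
    (hU : IsUnipotent k B) {K : Type u} [Field K] [IsAlgClosed K]
    (z : Spec (CommRingCat.of K) ⟶ Spec (CommRingCat.of k)) :
    Red.HasNoSubtorus K (Red.bc z (CoactBr.sp k B)) := by
  refine H21Weil.hasNoSubtorus_of_torsion _ fun D _ _ ℓ x hℓ hx => ?_
  let T0 : Over (Spec (CommRingCat.of k)) := (Over.map z).obj (H21Weil.specO K D)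
  obtain ⟨alg, u, hu⟩ := exists_affinization T0
  let ρ : D →+* Γ(T0.left, ⊤) := (Scheme.ΓSpecIso (CommRingCat.of D)).inv.hom
  have hℓ' : IsUnit (ℓ : Γ(T0.left, ⊤)) := by
    have := hℓ.map ρ
    rwa [map_natCast] at this
  let φ : (H21Weil.specO K D ⟶ Red.bc z (CoactBr.sp k B)) →* (T0 ⟶ CoactBr.sp k B) :=
    MonoidHom.mk' (H21Diag.bcEquiv z _ _).symm (H21Diag.bcEquiv_symm_mul z _ _)
  obtain ⟨g, hg⟩ := (hu B).2 (φ x)
  have hg' : u ≫ CoactBr.pt g = φ x := hg
  have hpow : toConv g ^ ℓ = 1 := by
    refine WithConv.ext ((hu B).1 ?_)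
    show u ≫ CoactBr.pt (toConv g ^ ℓ).ofConv = u ≫ CoactBr.pt (1 : WithConv (B →ₐ[k] Γ(T0.left, ⊤))).ofConv
    rw [pt_convPow, pt_convOne, MonObj.comp_one, MonObj.comp_pow, ofConv_toConv, hg', ← map_pow, hx, map_one]
  have hg1 := eq_one_of_pow_eq_one hU (toConv g) ℓ hℓ' hpow
  have h1 : φ x = 1 := by
    rw [← hg', show g = (1 : WithConv (B →ₐ[k] Γ(T0.left, ⊤))).ofConv from congrArg WithConv.ofConv hg1,
      pt_convOne, MonObj.comp_one]
  exact (H21Diag.bcEquiv z _ _).symm.injective (h1.trans (map_one φ).symm)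

end BaseChangeLemmas

section Forward

variable [CharZero k] {A : Type u} [CommRing A] [HopfAlgebra k A] [Algebra.FiniteType k A]

theorem kerIdeal_eq_ker_of_isReductive (hG : Red.IsReductive (CoactBr.sp k A)) :
    kerIdeal k A = RingHom.ker (Bialgebra.counitAlgHom k A) := by
  let I := kerIdeal k A
  let π : A →ₐc[k] A ⧸ I := Bialgebra.Quotient.mkBialgHom I
  have hπ : Function.Surjective π := Ideal.Quotient.mk_surjective
  let i : CoactBr.sp k (A ⧸ I) ⟶ CoactBr.sp k A := CoactBr.pt (π : A →ₐ[k] A ⧸ I)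
  haveI : IsMonHom i := isMonHom_pt π
  have hiN : AlgGrp.IsNormalHom i := isNormalHom_kerIdeal
  have hU : IsUnipotent k (A ⧸ I) := isUnipotent_quotient
  haveI hcl : IsClosedImmersion i.left :=
    IsClosedImmersion.spec_of_surjective (CommRingCat.ofHom (π : A →ₐ[k] A ⧸ I).toRingHom) hπ
  haveI : Algebra.FiniteType k (A ⧸ I) := Algebra.FiniteType.of_surjective (Ideal.Quotient.mkₐ k I)
    (Ideal.Quotient.mkₐ_surjective k I)
  haveI := connectedSpace_of_isUnipotent hU
  haveI hgc := geometricallyConnected_sp (k := k) (A := A ⧸ I)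
  haveI := locallyOfFiniteType_sp (k := k) (A := A ⧸ I)
  haveI : Nonempty ↥(Spec (CommRingCat.of k)) := inferInstanceAs (Nonempty (PrimeSpectrum k))
  obtain ⟨s⟩ : Nonempty ↥(Spec (CommRingCat.of k)) := inferInstance
  let K := AlgebraicClosure ((Spec (CommRingCat.of k)).residueField s)
  let z : Spec (CommRingCat.of K) ⟶ Spec (CommRingCat.of k) := Red.geomPt s
  obtain ⟨ψ, hψ⟩ := Spec.map_surjective z
  haveI : CharZero K := charZero_of_injective_ringHom ψ.hom.injective
  let U := Red.bc z (CoactBr.sp k (A ⧸ I))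
  let i' : U ⟶ Red.bc z (CoactBr.sp k A) := (Over.pullback z).map i
  haveI : IsMonHom i' := H21Diag.isMonHom_bcMap z i
  have hcl' : IsClosedImmersion i'.left := MorphismProperty.baseChange_map (P := @IsClosedImmersion) _ _ hcl
  haveI : LocallyOfFiniteType U.hom := inferInstanceAs
    (LocallyOfFiniteType (Limits.pullback.snd (CoactBr.sp k (A ⧸ I)).hom z))
  have hsm : Smooth U.hom := H19Grp.smooth_of_charZero U
  have hconn : ConnectedSpace ↥U.left :=
    GeometricallyConnected.geometrically_connectedSpace (f := (CoactBr.sp k (A ⧸ I)).hom) z _ _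
      (.of_hasPullback _ _)
  have hnorm : AlgGrp.IsNormalHom i' := isNormalHom_bcMap z i hiN
  have hno : Red.HasNoSubtorus K U := hasNoSubtorus_bc_of_isUnipotent hU z
  have htriv : Red.IsTrivialGrp U := (hG.2.2 s).2.2.2 U i' hcl' hsm hconn hnorm hno
  letI algK : Algebra k K := ψ.hom.toAlgebra
  have hz : Spec.map (CommRingCat.ofHom (algebraMap k K)) = z := hψ
  haveI hiso : IsIso (Limits.pullback.snd (Spec.map (CommRingCat.ofHom (algebraMap k (A ⧸ I))))
      (Spec.map (CommRingCat.ofHom (algebraMap k K)))) := by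
    rw [hz]
    exact htriv
  haveI : IsIso (Spec.map (CommRingCat.ofHom
      (Algebra.TensorProduct.includeRight : K →ₐ[k] (A ⧸ I) ⊗[k] K).toRingHom)) := by
    erw [← pullbackSpecIso_inv_snd k (A ⧸ I) K]
    infer_instance
  have hsurj : Function.Surjective (Algebra.TensorProduct.includeRight : K →ₐ[k] (A ⧸ I) ⊗[k] K) := by
    haveI := isIso_SpecMap_iff.mp ‹_›
    exact this.2
  refine le_antisymm ?_ fun a ha => ?_
  · intro a ha
    have h0 : π a = 0 := Ideal.Quotient.eq_zero_iff_mem.2 ha
    rw [RingHom.mem_ker]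
    show CoalgebraStruct.counit (R := k) a = 0
    rw [← CoalgHomClass.counit_comp_apply π a, h0, map_zero]
  · refine Ideal.Quotient.eq_zero_iff_mem.1 ?_
    show π a = 0
    obtain ⟨c, hc⟩ := hsurj (π a ⊗ₜ[k] 1)
    have hεb : CoalgebraStruct.counit (R := k) (π a) = 0 := by
      rw [CoalgHomClass.counit_comp_apply]
      exact (show (Bialgebra.counitAlgHom k A) a = 0 from RingHom.mem_ker.1 ha)
    have h1 := congrArg (TensorProduct.lid k K ∘ LinearMap.rTensor K (CoalgebraStruct.counit (R := k) (A := A ⧸ I))) hc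
    simp only [Algebra.TensorProduct.includeRight_apply, Function.comp_apply, LinearMap.rTensor_tmul,
      TensorProduct.lid_tmul, Bialgebra.counit_one, one_smul, hεb, zero_smul] at h1
    rw [h1, map_zero] at hc
    refine Algebra.TensorProduct.includeLeft_injective (R := k) (S := k) (A := A ⧸ I) (B := K)
      (algebraMap k K).injective ?_
    rw [map_zero]
    exact hc.symm

end Forward

section Abstract

universe v w

variable {C : Type v} [Category.{w} C] [CartesianMonoidalCategory C]

theorem conj_comp_eq {N N' G G' T : C} [GrpObj G] [GrpObj G'] (a : N ≅ N') (b : G ≅ G') [IsMonHom b.hom]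
    (i : N ⟶ G) (g : T ⟶ G') (n : T ⟶ N') :
    g * (n ≫ a.inv ≫ i ≫ b.hom) * g⁻¹ = ((g ≫ b.inv) * ((n ≫ a.inv) ≫ i) * (g ≫ b.inv)⁻¹) ≫ b.hom := by
  rw [MonObj.mul_comp, MonObj.mul_comp, GrpObj.inv_comp]
  simp only [Category.assoc, Iso.inv_hom_id, Category.comp_id]

end Abstract

theorem isNormalHom_of_iso {S : Scheme.{u}} {N N' G G' : Over S} [GrpObj N] [GrpObj N'] [GrpObj G] [GrpObj G']
    (a : N ≅ N') (b : G ≅ G') [IsMonHom b.hom] (i : N ⟶ G) (hi : AlgGrp.IsNormalHom i) :
    AlgGrp.IsNormalHom (a.inv ≫ i ≫ b.hom) := by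
  intro T g n
  obtain ⟨n', hn'⟩ := hi T (g ≫ b.inv) (n ≫ a.inv)
  refine ⟨n' ≫ a.hom, ?_⟩
  rw [conj_comp_eq a b i g n, hn']
  simp only [Category.assoc, Iso.hom_inv_id_assoc]

set_option backward.isDefEq.respectTransparency true in
theorem eq_zero_of_torus_quotient (U : Over (Spec (CommRingCat.of k))) [GrpObj U] (B : Type u) [CommRing B]
    [HopfAlgebra k B] (f : H21Hom.specGrp k B ⟶ U) [IsMonHom f] [IsIso f] (hU : Red.HasNoSubtorus k U)
    (r : ℕ) (φ : B →ₐc[k] MonoidAlgebra k (Multiplicative (Fin r → ℤ))) (hφ : Function.Surjective φ) : r = 0 := by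
  by_contra hr
  let j₀ : Red.diag k (Fin r → ℤ) ⟶ H21Hom.specGrp k B :=
    CoactBr.pt (φ : B →ₐ[k] MonoidAlgebra k (Multiplicative (Fin r → ℤ)))
  haveI : IsMonHom j₀ := isMonHom_pt φ
  haveI := H21Diag.isIso_diagToDS k (Fin r → ℤ)
  haveI : IsClosedImmersion j₀.left :=
    IsClosedImmersion.spec_of_surjective
      (CommRingCat.ofHom (φ : B →ₐ[k] MonoidAlgebra k (Multiplicative (Fin r → ℤ))).toRingHom) hφ
  haveI : Mono j₀ := by
    haveI : Mono ((Over.forget _).map j₀) := inferInstanceAs (Mono j₀.left)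
    exact (Over.forget _).mono_of_mono_map ‹_›
  haveI := H21Diag.isMonHom_diagToDS k (Fin r → ℤ)
  haveI : IsMonHom (inv (H21Diag.diagToDS k (Fin r → ℤ))) :=
    inferInstanceAs (IsMonHom (asIso (H21Diag.diagToDS k (Fin r → ℤ))).inv)
  exact H27Witt.not_isTrivialGrp_DS (k := k) hr (hU (Red.DS (Spec (CommRingCat.of k)) (Fin r → ℤ))
    (inv (H21Diag.diagToDS k (Fin r → ℤ)) ≫ j₀ ≫ f) (H27Witt.isTorus_DS _ r))

section Backward

theorem exists_isUnipotent_model [CharZero k] [IsAlgClosed k] (U : Over (Spec (CommRingCat.of k))) [GrpObj U]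
    [IsAffine U.left] [ConnectedSpace ↥U.left] [LocallyOfFiniteType U.hom] (hU : Red.HasNoSubtorus k U) :
    ∃ (B : Type u) (_ : CommRing B) (_ : HopfAlgebra k B),
      IsUnipotent k B ∧ Nonempty (Grp.mk U ≅ Grp.mk (H21Hom.specGrp k B)) := by
  obtain ⟨B, _, _, ⟨e⟩⟩ := H21Hom.exists_hopf_model U
  refine ⟨B, ‹_›, ‹_›, ?_, ⟨e⟩⟩
  let e' : U ≅ H21Hom.specGrp k B := (Grp.forget _).mapIso e
  haveI : IsMonHom e'.inv := e.inv.hom.isMonHom_hom
  haveI : IsIso e'.inv.left := inferInstanceAs (IsIso ((Over.forget _).map e'.inv))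
  haveI hc : ConnectedSpace ↥(Spec (CommRingCat.of B)) :=
    (Scheme.Hom.homeomorph e'.inv.left).symm.surjective.connectedSpace
      (Scheme.Hom.homeomorph e'.inv.left).symm.continuous
  haveI : LocallyOfFiniteType (H21Hom.specGrp k B).hom := by
    rw [← Over.w e'.inv]; infer_instance
  haveI : Algebra.FiniteType k B := by
    have h : (CommRingCat.ofHom (algebraMap k B)).hom.FiniteType :=
      (HasRingHomProperty.Spec_iff (P := @LocallyOfFiniteType)).1
        (show LocallyOfFiniteType (Spec.map (CommRingCat.ofHom (algebraMap k B))) from ‹_›)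
    exact RingHom.finiteType_algebraMap.1 h
  haveI : IsDomain B := isDomain_of_connected (k := k)
  exact isUnipotent_of_forall_torus fun r φ hφ => eq_zero_of_torus_quotient U B e'.inv hU r φ hφ

/-- **Linearly reductive connected groups in characteristic zero are reductive.** -/
theorem isReductive_of_isLinearlyReductive [CharZero k] {A : Type u} [CommRing A] [HopfAlgebra k A]
    [Algebra.FiniteType k A] [ConnectedSpace ↥(Spec (CommRingCat.of A))] (hA : IsLinearlyReductive k A) :
    Red.IsReductive (CoactBr.sp k A) := by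
  haveI := geometricallyConnected_sp (k := k) (A := A)
  haveI := locallyOfFiniteType_sp (k := k) (A := A)
  refine ⟨inferInstanceAs (IsAffineHom (Spec.map (CommRingCat.ofHom (algebraMap k A)))),
    H19Grp.smooth_of_charZero _, fun s => ?_⟩
  let K := AlgebraicClosure ((Spec (CommRingCat.of k)).residueField s)
  let z : Spec (CommRingCat.of K) ⟶ Spec (CommRingCat.of k) := Red.geomPt s
  obtain ⟨ψ, hψ⟩ := Spec.map_surjective z
  haveI : CharZero K := charZero_of_injective_ringHom ψ.hom.injective
  letI algK : Algebra k K := ψ.hom.toAlgebra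
  have hz : z = Spec.map (CommRingCat.ofHom (algebraMap k K)) := hψ.symm
  obtain ⟨e⟩ : Nonempty (Grp.mk (Red.bc z (CoactBr.sp k A)) ≅ Grp.mk (H21Hom.specGrp K (K ⊗[k] A))) := by
    rw [hz]
    exact H21Hom.nonempty_bc_specGrp A K
  let G := Red.bc z (CoactBr.sp k A)
  let e' : G ≅ H21Hom.specGrp K (K ⊗[k] A) := (Grp.forget _).mapIso e
  haveI : IsMonHom e'.hom := e.hom.hom.isMonHom_hom
  haveI : IsIso e'.hom.left := inferInstanceAs (IsIso ((Over.forget _).map e'.hom))
  haveI : IsAffine (H21Hom.specGrp K (K ⊗[k] A)).left :=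
    inferInstanceAs (IsAffine (Spec (CommRingCat.of (K ⊗[k] A))))
  haveI haff : IsAffine G.left := .of_isIso e'.hom.left
  haveI : LocallyOfFiniteType G.hom := inferInstanceAs
    (LocallyOfFiniteType (Limits.pullback.snd (CoactBr.sp k A).hom z))
  have hconn : ConnectedSpace ↥G.left :=
    GeometricallyConnected.geometrically_connectedSpace (f := (CoactBr.sp k A).hom) z _ _
      (.of_hasPullback _ _)
  refine ⟨haff, H19Grp.smooth_of_charZero G, hconn, fun U _ i _ hcl hsm hUc hnorm hno => ?_⟩
  haveI := hcl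
  haveI := hUc
  haveI : IsAffine U.left := isAffine_of_isAffineHom i.left
  haveI : LocallyOfFiniteType U.hom := by rw [← Over.w i]; infer_instance
  obtain ⟨B, _, _, hB, ⟨f⟩⟩ := exists_isUnipotent_model U hno
  let f' : U ≅ H21Hom.specGrp K B := (Grp.forget _).mapIso f
  haveI : IsMonHom f'.inv := f.inv.hom.isMonHom_hom
  haveI : IsIso f'.inv.left := inferInstanceAs (IsIso ((Over.forget _).map f'.inv))
  let i₀ : CoactBr.sp K B ⟶ CoactBr.sp K (K ⊗[k] A) := f'.inv ≫ i ≫ e'.hom
  haveI : IsMonHom i₀ := inferInstanceAs (IsMonHom (f'.inv ≫ i ≫ e'.hom))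
  haveI : (bialgSpec (CommRingCat.of K)).Full := bialgSpec.instFull
  obtain ⟨h, hh⟩ := (bialgSpec (CommRingCat.of K)).map_surjective
    (X := Opposite.op (CommBialgCat.of K B)) (Y := Opposite.op (CommBialgCat.of K (K ⊗[k] A))) (Mon.Hom.mk i₀)
  let π : K ⊗[k] A →ₐc[K] B := CommBialgCat.Hom.hom h.unop
  have hπ : CoactBr.pt (π : K ⊗[k] A →ₐ[K] B) = i₀ := congrArg Mon.Hom.hom hh
  have hsurj : Function.Surjective π := by
    have hc : IsClosedImmersion (CoactBr.pt (π : K ⊗[k] A →ₐ[K] B)).left := by
      rw [hπ]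
      show IsClosedImmersion (f'.inv.left ≫ i.left ≫ e'.hom.left)
      infer_instance
    let φ := CommRingCat.ofHom (π : K ⊗[k] A →ₐ[K] B).toRingHom
    haveI : IsClosedImmersion (Spec.map φ) := hc
    have h1 := (IsClosedImmersion.isAffine_surjective_of_isAffine (f := Spec.map φ)).2
    intro b
    obtain ⟨a, ha⟩ := h1 ((Scheme.ΓSpecIso (CommRingCat.of B)).inv.hom b)
    refine ⟨(Scheme.ΓSpecIso (CommRingCat.of (K ⊗[k] A))).hom.hom a, ?_⟩
    have h2 := congrArg (fun (m : _ ⟶ CommRingCat.of B) => m.hom a) (Scheme.ΓSpecIso_naturality φ)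
    simp only [CommRingCat.hom_comp, RingHom.comp_apply] at h2
    refine h2.symm.trans ?_
    rw [ha]
    exact congrArg (fun (m : CommRingCat.of B ⟶ CommRingCat.of B) => m.hom b)
      (Scheme.ΓSpecIso (CommRingCat.of B)).inv_hom_id
  have hN : IsNormalQuot π := isNormalQuot_of_isNormalHom (hπ ▸ isNormalHom_of_iso f' e' i hnorm)
  have hlr : IsLinearlyReductive K (K ⊗[k] A) := (Groth.Agent.S18813.result k K A).1 hA
  have hπε := eq_counit_of_normal_unipotent hlr hB hN
  have hbij : Function.Bijective (algebraMap K B) := by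
    haveI : Nontrivial B := (RingHom.domain_nontrivial (Bialgebra.counitAlgHom K B).toRingHom)
    refine ⟨(algebraMap K B).injective, fun b => ?_⟩
    obtain ⟨a, rfl⟩ := hsurj b
    exact ⟨_, (hπε a).symm⟩
  haveI : IsIso (CommRingCat.ofHom (algebraMap K B)) := (ConcreteCategory.isIso_iff_bijective _).mpr hbij
  haveI : IsIso (H21Hom.specGrp K B).hom :=
    inferInstanceAs (IsIso (Spec.map (CommRingCat.ofHom (algebraMap K B))))
  haveI : IsIso f'.hom.left := inferInstanceAs (IsIso ((Over.forget _).map f'.hom))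
  show IsIso U.hom
  rw [← Over.w f'.hom]
  infer_instance

end Backward

/-- **In characteristic zero reductive means linearly reductive.** -/
theorem isReductive_iff_isLinearlyReductive [CharZero k] {A : Type u} [CommRing A] [HopfAlgebra k A]
    [Algebra.FiniteType k A] [ConnectedSpace ↥(Spec (CommRingCat.of A))] :
    Red.IsReductive (CoactBr.sp k A) ↔ IsLinearlyReductive k A := by
  refine ⟨fun h => ?_, isReductive_of_isLinearlyReductive⟩
  haveI : IsDomain A := isDomain_of_connected (k := k)
  exact isLinearlyReductive_of_kerIdeal (kerIdeal_eq_ker_of_isReductive h)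

end

end Groth.Agent.H20Red
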