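import Groth.Agent.H20Red.Cohom

/-!
Reductivity is invariant under isomorphisms of group schemes.
-/

set_option autoImplicit false
set_option linter.style.haveILetI false
set_option backward.isDefEq.respectTransparency false

universe u

open CategoryTheory MonoidalCategory CartesianMonoidalCategory MonObj GrpObj AlgebraicGeometry

namespace Groth.Agent.H20Red

theorem isReductiveOver_of_iso (K : Type u) [Field K] {G G' : Over (Spec (CommRingCat.of K))} [GrpObj G] [GrpObj G']
    (e : G' ≅ G) [IsMonHom e.hom] (h : Red.IsReductiveOver K G) : Red.IsReductiveOver K G' := by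
  obtain ⟨ha, hs, hc, hU⟩ := h
  haveI : IsIso e.hom.left := inferInstanceAs (IsIso ((Over.forget _).map e.hom))
  haveI := ha
  haveI := hs
  haveI := hc
  refine ⟨.of_isIso e.hom.left, by rw [← Over.w e.hom]; infer_instance,
    (Scheme.Hom.homeomorph e.hom.left).symm.surjective.connectedSpace
      (Scheme.Hom.homeomorph e.hom.left).symm.continuous, fun U _ i _ hcl hsm hUc hn hno => ?_⟩
  haveI := hcl
  haveI : IsMonHom (i ≫ e.hom) := inferInstance
  refine hU U (i ≫ e.hom) (by rw [Over.comp_left]; infer_instance) hsm hUc ?_ hno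
  have := isNormalHom_of_iso (Iso.refl U) e i hn
  simpa using this

theorem isReductive_of_iso {S : Scheme.{u}} {G G' : Over S} [GrpObj G] [GrpObj G'] (e : G' ≅ G) [IsMonHom e.hom]
    (h : Red.IsReductive G) : Red.IsReductive G' := by
  obtain ⟨ha, hs, hf⟩ := h
  haveI := ha
  haveI := hs
  haveI : IsIso e.hom.left := inferInstanceAs (IsIso ((Over.forget _).map e.hom))
  refine ⟨by rw [← Over.w e.hom]; infer_instance, by rw [← Over.w e.hom]; infer_instance, fun s => ?_⟩
  let e' : Red.geomFibre s G' ≅ Red.geomFibre s G := (Over.pullback (Red.geomPt s)).mapIso e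
  haveI : IsMonHom e'.hom := H21Diag.isMonHom_bcMap (Red.geomPt s) e.hom
  exact isReductiveOver_of_iso _ e' (hf s)

theorem isLinearlyReductive_of_iso_isReductive {k : Type u} [Field k] [CharZero k]
    {G : Over (Spec (CommRingCat.of k))} [GrpObj G] (hG : Red.IsReductive G) {A : Type u} [CommRing A]
    [HopfAlgebra k A] (v : G ≅ CoactBr.sp k A) [IsMonHom v.inv] : HopfRep.IsLinearlyReductive k A :=
  haveI : IsMonHom v.symm.hom := ‹IsMonHom v.inv›
  isLinearlyReductive_of_isReductive (isReductive_of_iso v.symm hG)

end Groth.Agent.H20Red
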