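import Groth.Agent.H20Comod.DualMod
import Groth.Agent.H20Comod.Slices
import Groth.Agent.H20Comod.Unip
import Groth.Prelude.Def_ComodSub
import Mathlib.RingTheory.HopfAlgebra.Quotient
import Mathlib.RingTheory.Bialgebra.Convolution

/-!
The common kernel of the simple comodules of an affine group: a normal unipotent subgroup.
-/

set_option autoImplicit false
set_option linter.style.haveILetI false
set_option backward.isDefEq.respectTransparency false

universe u w

open TensorProduct HopfRep WithConv
open Groth.Agent.H20Comod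

namespace Groth.Agent.H20Red

noncomputable section

variable {k : Type u} [Field k] {A : Type u} [CommRing A] [HopfAlgebra k A]

variable (k A) in
/-- The sum of the simple subcomodules of the regular comodule. -/
def socle : Submodule (DualAlg k A) A := sSup {m : Submodule (DualAlg k A) A | IsSimpleModule (DualAlg k A) m}

theorem isotypic_le_socle {V : Type w} [AddCommGroup V] [Module k V] [Comod k A V]
    (m : Submodule (DualAlg k A) V) [IsSimpleModule (DualAlg k A) m] :
    isotypicComponent (DualAlg k A) A m ≤ socle k A :=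
  sSup_le fun n hn => le_sSup (show IsSimpleModule (DualAlg k A) n from IsSimpleModule.congr hn.some)

theorem coeffIn_le_socle {V : Type w} [AddCommGroup V] [Module k V] [Comod k A V]
    (m : Submodule (DualAlg k A) V) [IsSimpleModule (DualAlg k A) m] : coeffIn m ≤ socle k A :=
  (coeffIn_le_isotypicComponent m).trans (isotypic_le_socle m)

/-- The coefficients of a simple comodule lie in the socle. -/
theorem coeff_mem_socle {V : Type w} [AddCommGroup V] [Module k V] [Comod k A V] (hV : IsSimpleComod k A V)
    (g : V →ₗ[k] k) (v : V) : coeff A g v ∈ socle k A := by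
  haveI : IsSimpleModule (DualAlg k A) V := isSimpleComod_iff.1 hV
  haveI : IsSimpleModule (DualAlg k A) (⊤ : Submodule (DualAlg k A) V) := IsSimpleModule.congr Submodule.topEquiv
  exact coeffIn_le_socle (⊤ : Submodule (DualAlg k A) V) (coeff_mem_coeffIn Submodule.mem_top g)

theorem isSubcoalg_socle : IsSubcoalg (k := k) ((socle k A).restrictScalars k) := by
  intro x hx
  have hx' : x ∈ socle k A := hx
  rw [socle, sSup_eq_iSup'] at hx'
  clear hx
  induction hx' using Submodule.iSup_induction' with
  | mem m y hy =>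
    haveI : IsSimpleModule (DualAlg k A) m.1 := m.2
    have hy' : y ∈ coeffIn m.1 := le_coeffIn m.1 hy
    obtain ⟨z, hz⟩ := isSubcoalg_coeffIn m.1 y hy'
    have hle : (coeffIn m.1).restrictScalars k ≤ (socle k A).restrictScalars k := coeffIn_le_socle m.1
    refine ⟨TensorProduct.map (Submodule.inclusion hle) (Submodule.inclusion hle) z, ?_⟩
    rw [← LinearMap.comp_apply, ← TensorProduct.map_comp]
    exact hz
  | zero => rw [map_zero]; exact zero_mem _
  | add y z _ _ hy hz => rw [map_add]; exact add_mem hy hz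

theorem comul_socle_induction {M : Type w} [AddCommGroup M] [Module k M] (F G : A ⊗[k] A →ₗ[k] M)
    (h : ∀ p ∈ socle k A, ∀ q ∈ socle k A, F (p ⊗ₜ q) = G (p ⊗ₜ q)) {a : A} (ha : a ∈ socle k A) :
    F (CoalgebraStruct.comul (R := k) a) = G (CoalgebraStruct.comul (R := k) a) := by
  obtain ⟨z, hz⟩ := isSubcoalg_socle (k := k) (A := A) a ha
  rw [← hz]
  clear hz
  induction z using TensorProduct.induction_on with
  | zero => simp
  | tmul p q => exact h _ p.2 _ q.2
  | add x y hx hy => simp only [map_add, hx, hy]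

variable (k A) in
/-- The ideal of the common kernel of the simple comodules. -/
def kerIdeal : Ideal A :=
  Ideal.span ((fun a => a - CoalgebraStruct.counit (R := k) a • (1 : A)) '' (socle k A : Set A))

theorem mk_socle {a : A} (ha : a ∈ socle k A) :
    Ideal.Quotient.mkₐ k (kerIdeal k A) a = CoalgebraStruct.counit (R := k) a • 1 := by
  rw [← map_one (Ideal.Quotient.mkₐ k (kerIdeal k A)), ← map_smul, ← sub_eq_zero, ← map_sub]
  exact Ideal.Quotient.eq_zero_iff_mem.2 (Ideal.subset_span ⟨a, ha, rfl⟩)

theorem kerIdeal_le_ker {B : Type w} [CommRing B] [Algebra k B] (f : A →ₐ[k] B)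
    (h : ∀ a ∈ socle k A, f a = CoalgebraStruct.counit (R := k) a • 1) : kerIdeal k A ≤ RingHom.ker f := by
  rw [kerIdeal, Ideal.span_le]
  rintro _ ⟨a, ha, rfl⟩
  rw [SetLike.mem_coe, RingHom.mem_ker, map_sub, map_smul, map_one, h a ha, sub_self]

theorem mul'_antipode (a : A) :
    LinearMap.mul' k A (TensorProduct.map LinearMap.id (HopfAlgebra.antipode k)
      (CoalgebraStruct.comul (R := k) a)) = algebraMap k A (CoalgebraStruct.counit (R := k) a) :=
  LinearMap.congr_fun (HopfAlgebra.mul_antipode_lTensor_comul (R := k) (A := A)) a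

theorem sum_counit_apply (f : A →ₗ[k] A) (a : A) :
    TensorProduct.lid k A (TensorProduct.map (CoalgebraStruct.counit (R := k)) f
      (CoalgebraStruct.comul (R := k) a)) = f a := by
  have h : TensorProduct.map (CoalgebraStruct.counit (R := k)) f =
      f.lTensor k ∘ₗ (CoalgebraStruct.counit (R := k) (A := A)).rTensor A :=
    (LinearMap.lTensor_comp_rTensor _ _ _).symm
  rw [h, LinearMap.comp_apply, Coalgebra.rTensor_counit_comul, LinearMap.lTensor_tmul, TensorProduct.lid_tmul,
    one_smul]

theorem sum_counit_apply_k (a : A) :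
    TensorProduct.lid k k (TensorProduct.map (CoalgebraStruct.counit (R := k)) (CoalgebraStruct.counit (R := k))
      (CoalgebraStruct.comul (R := k) a)) = CoalgebraStruct.counit (R := k) a := by
  have h : TensorProduct.map (CoalgebraStruct.counit (R := k) (A := A)) (CoalgebraStruct.counit (R := k) (A := A)) =
      (CoalgebraStruct.counit (R := k) (A := A)).lTensor k ∘ₗ (CoalgebraStruct.counit (R := k) (A := A)).rTensor A :=
    (LinearMap.lTensor_comp_rTensor _ _ _).symm
  rw [h, LinearMap.comp_apply, Coalgebra.rTensor_counit_comul, LinearMap.lTensor_tmul, TensorProduct.lid_tmul,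
    one_smul]

instance isHopfIdeal_kerIdeal : (kerIdeal k A).IsHopfIdeal k := by
  let q : A →ₐ[k] A ⧸ kerIdeal k A := Ideal.Quotient.mkₐ k (kerIdeal k A)
  haveI : ((kerIdeal k A).restrictScalars k).IsCoideal := by
    refine Submodule.IsCoideal.mk (fun x hx => ?_) (fun x hx => ?_)
    · have h := kerIdeal_le_ker (Bialgebra.counitAlgHom k A) (fun a _ => by
        rw [Bialgebra.counitAlgHom_apply, smul_eq_mul, mul_one]) hx
      exact h
    · let f : A →ₐ[k] (A ⧸ kerIdeal k A) ⊗[k] (A ⧸ kerIdeal k A) :=
        (Algebra.TensorProduct.map q q).comp (Bialgebra.comulAlgHom k A)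
      have h := kerIdeal_le_ker f (fun a ha => by
        show (Algebra.TensorProduct.map q q).toLinearMap (CoalgebraStruct.comul (R := k) a) = _
        rw [comul_socle_induction (Algebra.TensorProduct.map q q).toLinearMap
          ((LinearMap.toSpanSingleton k _ (1 : (A ⧸ kerIdeal k A) ⊗[k] (A ⧸ kerIdeal k A))) ∘ₗ
            TensorProduct.lid k k ∘ₗ TensorProduct.map (CoalgebraStruct.counit (R := k))
              (CoalgebraStruct.counit (R := k))) (fun p hp r hr => by
            show q p ⊗ₜ[k] q r = _
            rw [mk_socle hp, mk_socle hr]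
            simp [Algebra.TensorProduct.one_def, TensorProduct.smul_tmul', TensorProduct.tmul_smul, smul_smul,
              mul_comm]) ha]
        show (TensorProduct.lid k k _) • (1 : (A ⧸ kerIdeal k A) ⊗[k] (A ⧸ kerIdeal k A)) = _
        congr 1
        exact sum_counit_apply_k a) hx
      have hq : ∀ z : A ⊗[k] A, TensorProduct.map ((kerIdeal k A).restrictScalars k).mkQ
          ((kerIdeal k A).restrictScalars k).mkQ z = 0 ↔ Algebra.TensorProduct.map q q z = 0 := fun z => Iff.rfl
      exact (hq _).2 h
  exact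
    { (inferInstance : ((kerIdeal k A).restrictScalars k).IsCoideal) with
      antipode_mem := fun x hx => by
        have h := kerIdeal_le_ker (q.comp (HopfAlgebra.antipodeAlgHom k A)) (fun a ha => by
          have e := congrArg q (mul'_antipode (k := k) a)
          rw [AlgHom.commutes, Algebra.algebraMap_eq_smul_one] at e
          rw [← e]
          show q (HopfAlgebra.antipode k a) = _
          rw [← sum_counit_apply (HopfAlgebra.antipode k) a]
          exact comul_socle_induction
            (q.toLinearMap ∘ₗ (TensorProduct.lid k A).toLinearMap ∘ₗ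
              TensorProduct.map (CoalgebraStruct.counit (R := k)) (HopfAlgebra.antipode k))
            (q.toLinearMap ∘ₗ LinearMap.mul' k A ∘ₗ
              TensorProduct.map LinearMap.id (HopfAlgebra.antipode k)) (fun p hp r hr => by
              show q (CoalgebraStruct.counit (R := k) p • HopfAlgebra.antipode k r) =
                q (p * HopfAlgebra.antipode k r)
              rw [map_smul, map_mul, mk_socle hp, smul_one_mul]) ha) hx
        exact Ideal.Quotient.eq_zero_iff_mem.1 h }

/-- The common kernel of the simple comodules is unipotent. -/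
theorem isUnipotent_quotient : IsUnipotent k (A ⧸ kerIdeal k A) := by
  classical
  intro V _ _ _ _ hnt
  let B := A ⧸ kerIdeal k A
  let q : A →ₐ[k] B := Ideal.Quotient.mkₐ k (kerIdeal k A)
  obtain ⟨m, -, hm⟩ := exists_simple_le (k := k) (A := B) (V := V) (p := ⊤) top_ne_bot
  haveI := hm
  haveI := IsSimpleModule.nontrivial (DualAlg k B) m
  obtain ⟨⟨x₀, hx₀⟩, hx0⟩ := exists_ne (0 : m)
  obtain ⟨g₀, hg₀⟩ : ∃ g : V →ₗ[k] k, g x₀ ≠ 0 := by
    by_contra hc
    push Not at hc
    exact hx0 (Subtype.ext ((Module.forall_dual_apply_eq_zero_iff k x₀).1 hc))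
  let f : V →ₗ[DualAlg k B] B := homLin (coeff B g₀) (isComodHom_coeff g₀)
  let P : Submodule (DualAlg k B) B := m.map f
  have hfx : f x₀ ≠ 0 := fun h => hg₀ (by
    have := congrArg (CoalgebraStruct.counit (R := k)) h
    rwa [map_zero, homLin_apply, apply_coeff, actL_counit] at this)
  have hinj : Function.Injective (f.comp m.subtype) :=
    (LinearMap.injective_or_eq_zero (f.comp m.subtype)).resolve_right fun h =>
      hfx (LinearMap.congr_fun h ⟨x₀, hx₀⟩)
  -- a minimal subcomodule of `A` whose image meets `P`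
  have hex : ∃ n, ∃ D : Submodule k A, IsSubcomod (k := k) (A := A) D ∧ Module.Finite k D ∧
      Module.finrank k D = n ∧ ∃ d ∈ D, q d ∈ P ∧ q d ≠ 0 := by
    obtain ⟨a, ha⟩ := Ideal.Quotient.mkₐ_surjective k (kerIdeal k A) (f x₀)
    obtain ⟨D, hDf, haD, hD⟩ := exists_finite_subcomod (k := k) (A := A) (V := A) (Set.finite_singleton a)
    refine ⟨_, D, hD, hDf, rfl, a, haD rfl, ?_, ?_⟩
    · rw [show q a = f x₀ from ha]; exact Submodule.mem_map_of_mem hx₀
    · rw [show q a = f x₀ from ha]; exact hfx
  obtain ⟨D, hD, hDf, hDn, d, hdD, hdP, hd0⟩ := Nat.find_spec hex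
  -- a maximal proper subcomodule
  let S := {p : Submodule k A | IsSubcomod (k := k) (A := A) p ∧ p < D}
  haveI := hDf
  have hSne : S.Nonempty := ⟨⊥, isSubcomod_bot, bot_lt_iff_ne_bot.2 fun h => hd0 (by
    rw [h, Submodule.mem_bot] at hdD
    rw [hdD, map_zero])⟩
  obtain ⟨D', ⟨hD', hlt⟩, hmax⟩ : ∃ p ∈ S, ∀ p' ∈ S, ¬ p < p' := by
    let T := (fun p : Submodule k A => p.comap D.subtype) '' S
    obtain ⟨_, ⟨p, hp, rfl⟩, hpm⟩ := wellFounded_gt.has_min T (hSne.image _)
    refine ⟨p, hp, fun p' hp' h => hpm _ ⟨p', hp', rfl⟩ ?_⟩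
    refine lt_of_le_of_ne (Submodule.comap_mono h.le) fun e => h.ne ?_
    have := congrArg (Submodule.map D.subtype) e
    rwa [Submodule.map_comap_subtype, Submodule.map_comap_subtype, inf_eq_right.2 hp.2.le,
      inf_eq_right.2 hp'.2.le] at this
  have hdisj : ∀ e ∈ D', q e ∈ P → q e = 0 := fun e he heP => by
    by_contra he0
    haveI : Module.Finite k D' := Submodule.finiteDimensional_of_le hlt.le
    exact Nat.find_min hex (hDn ▸ Submodule.finrank_lt_finrank_of_lt hlt)
      ⟨D', hD', inferInstance, rfl, e, he, heP, he0⟩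
  -- the simple quotient
  letI cD := ComodSub.Comod.restr (inferInstance : Comod k A A) D hD
  let D'' : Submodule k D := D'.comap D.subtype
  have hD'' : IsSubcomod (k := k) (A := A) D'' :=
    isSubcomod_comap (ComodSub.isComodHom_subtype (inferInstance : Comod k A A) D hD) hD'
  letI cQ := ComodSub.Comod.quot cD D'' hD''
  have hπ := ComodSub.isComodHom_mkQ cD D'' hD''
  have hsimple : IsSimpleComod k A (D ⧸ D'') := by
    refine ⟨Submodule.Quotient.nontrivial_iff.2 fun h => hlt.not_ge fun y hy => ?_, fun U hU => ?_⟩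
    · exact (show (⟨y, hy⟩ : D) ∈ D'' from h ▸ Submodule.mem_top)
    let U' : Submodule k A := (U.comap D''.mkQ).map D.subtype
    have hU' : IsSubcomod (k := k) (A := A) U' :=
      isSubcomod_map (ComodSub.isComodHom_subtype (inferInstance : Comod k A A) D hD) (isSubcomod_comap hπ hU)
    have h1 : D' ≤ U' := fun y hy => by
      refine ⟨⟨y, hlt.le hy⟩, ?_, rfl⟩
      show D''.mkQ ⟨y, hlt.le hy⟩ ∈ U
      rw [show D''.mkQ ⟨y, hlt.le hy⟩ = 0 from (Submodule.Quotient.mk_eq_zero D'').2 hy]
      exact zero_mem _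
    have h2 : U' ≤ D := by rintro _ ⟨y, -, rfl⟩; exact y.2
    rcases h1.eq_or_lt with h | h
    · left
      rw [eq_bot_iff]
      intro z hz
      obtain ⟨y, rfl⟩ := D''.mkQ_surjective z
      have : (y : A) ∈ U' := ⟨y, hz, rfl⟩
      rw [← h] at this
      exact (Submodule.mem_bot k).2 ((Submodule.Quotient.mk_eq_zero D'').2 this)
    · right
      rcases h2.eq_or_lt with h' | h'
      · rw [eq_top_iff]
        intro z _
        obtain ⟨y, rfl⟩ := D''.mkQ_surjective z
        obtain ⟨y', hy', e⟩ := (h'.symm ▸ y.2 : (y : A) ∈ U')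
        rwa [show y' = y from Subtype.ext e] at hy'
      · exact absurd h (hmax U' ⟨hU', h'⟩)
  -- the element `q d` is fixed
  let x := q d
  have hfixx : CoalgebraStruct.comul (R := k) x = x ⊗ₜ[k] (1 : B) := by
    rw [← sub_eq_zero]
    refine eq_zero_of_forall_sliceR fun φ => ?_
    have hP : sliceR φ (CoalgebraStruct.comul (R := k) x - x ⊗ₜ[k] (1 : B)) ∈ P := by
      rw [map_sub, sliceR_tmul]
      refine sub_mem ?_ ?_
      · exact P.smul_mem (DualAlg.mk φ) hdP
      · exact (P.restrictScalars k).smul_mem _ hdP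
    obtain ⟨e, he, heq⟩ : sliceR φ (CoalgebraStruct.comul (R := k) x - x ⊗ₜ[k] (1 : B)) ∈
        D'.map q.toLinearMap := by
      by_contra hc
      obtain ⟨h, hh1, hh2⟩ := Submodule.exists_le_ker_of_notMem hc
      refine hh1 ?_
      rw [apply_sliceR_eq_apply_sliceL]
      convert map_zero φ
      rw [map_sub, sliceL_tmul, sub_eq_zero]
      have hvan : D'' ≤ LinearMap.ker (h ∘ₗ q.toLinearMap ∘ₗ D.subtype) := fun y hy =>
        hh2 ⟨y, hy, rfl⟩
      let gb : (D ⧸ D'') →ₗ[k] k := D''.liftQ _ hvan
      have hc1 : coeff A (h ∘ₗ q.toLinearMap) d = coeff A gb (D''.mkQ ⟨d, hdD⟩) := by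
        rw [coeff_apply, coeff_apply, show Comod.coact (k := k) (A := A) (D''.mkQ ⟨d, hdD⟩) =
          D''.mkQ.rTensor A (Comod.coact (k := k) (A := A) (⟨d, hdD⟩ : D)) from LinearMap.congr_fun hπ _,
          sliceL_rTensor, show gb ∘ₗ D''.mkQ = (h ∘ₗ q.toLinearMap) ∘ₗ D.subtype from Submodule.liftQ_mkQ _ _ hvan]
        refine Eq.trans ?_ (sliceL_rTensor _ _ _)
        exact congrArg _ (ComodSub.restr_coact_coe (inferInstance : Comod k A A) D hD ⟨d, hdD⟩).symm
      have hsoc : coeff A (h ∘ₗ q.toLinearMap) d ∈ socle k A := hc1 ▸ coeff_mem_socle hsimple _ _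
      have hcu : CoalgebraStruct.comul (R := k) x = Algebra.TensorProduct.map q q (CoalgebraStruct.comul (R := k) d) :=
        (LinearMap.congr_fun (CoalgHomClass.map_comp_comul
          (Bialgebra.Quotient.mkBialgHom (R := k) (kerIdeal k A))) d).symm
      rw [hcu]
      have hsl : ∀ z : A ⊗[k] A, sliceL h (Algebra.TensorProduct.map q q z) =
          q (sliceL (h ∘ₗ q.toLinearMap) z) := fun z => by
        induction z using TensorProduct.induction_on with
        | zero => simp
        | tmul p r => simp
        | add u v hu hv => simp only [map_add, hu, hv]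
      rw [hsl, show sliceL (h ∘ₗ q.toLinearMap) (CoalgebraStruct.comul (R := k) d) =
        coeff A (h ∘ₗ q.toLinearMap) d from rfl, mk_socle hsoc]
      congr 1
      rw [apply_coeff, actL_counit]
      rfl
    rw [← heq]
    exact hdisj e he (heq ▸ hP)
  obtain ⟨⟨v, hv⟩, hvx⟩ : ∃ v : m, f v = x := by
    obtain ⟨v, hv, e⟩ := hdP
    exact ⟨⟨v, hv⟩, e⟩
  have hvne : v ≠ 0 := fun h => hd0 (by
    have : f v = x := hvx
    rw [h, map_zero] at this
    exact this.symm)
  intro hbot
  refine hvne ((Submodule.mem_bot k).1 (hbot ▸ (?_ : v ∈ fixedPts k B V)))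
  show Comod.coact (k := k) (A := B) v = v ⊗ₜ[k] (1 : B)
  rw [← sub_eq_zero]
  refine eq_zero_of_forall_sliceR fun φ => ?_
  rw [map_sub, sliceR_tmul]
  have hmem : sliceR φ (Comod.coact (k := k) (A := B) v) - φ 1 • v ∈ m :=
    sub_mem (m.smul_mem (DualAlg.mk φ) hv) ((m.restrictScalars k).smul_mem _ hv)
  refine congrArg Subtype.val (hinj (a₁ := ⟨_, hmem⟩) (a₂ := 0) ?_)
  show f (sliceR φ (Comod.coact (k := k) (A := B) v) - φ 1 • v) = f 0
  have hcx : f (actL φ v) = actL φ (f v) := f.map_smul (DualAlg.mk φ) v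
  rw [map_zero, map_sub, f.map_smul_of_tower]
  show f (actL φ v) - φ 1 • f v = 0
  rw [hcx, show f v = x from hvx, actL_apply,
    show Comod.coact (k := k) (A := B) x = CoalgebraStruct.comul (R := k) x from rfl, hfixx, sliceR_tmul, sub_self]

/-- Multiplying by a point of the kernel does not change the values on the socle. -/
theorem mul_apply_socle {R : Type w} [CommRing R] [Algebra k R] (n h : WithConv (A →ₐ[k] R))
    (hn : ∀ a ∈ socle k A, n.ofConv a = algebraMap k R (CoalgebraStruct.counit (R := k) a)) {a : A}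
    (ha : a ∈ socle k A) : (n * h).ofConv a = h.ofConv a := by
  have hone : ∀ b, h.ofConv b = LinearMap.mul' k R (TensorProduct.map
      (toConv (1 : WithConv (A →ₐ[k] R)).ofConv).ofConv.toLinearMap h.ofConv.toLinearMap
      (CoalgebraStruct.comul (R := k) b)) := fun b => by
    conv_lhs => rw [← one_mul h]
    rfl
  rw [hone a]
  show LinearMap.mul' k R (TensorProduct.map n.ofConv.toLinearMap h.ofConv.toLinearMap
      (CoalgebraStruct.comul (R := k) a)) = _
  refine comul_socle_induction (LinearMap.mul' k R ∘ₗ TensorProduct.map n.ofConv.toLinearMap h.ofConv.toLinearMap)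
    (LinearMap.mul' k R ∘ₗ TensorProduct.map _ h.ofConv.toLinearMap) (fun p hp r _ => ?_) ha
  show n.ofConv p * h.ofConv r = algebraMap k R (CoalgebraStruct.counit (R := k) p) * h.ofConv r
  rw [hn p hp]

/-- The kernel is stable under conjugation. -/
theorem conj_apply_socle {R : Type w} [CommRing R] [Algebra k R] (g g' n : WithConv (A →ₐ[k] R))
    (hg : g * g' = 1)
    (hn : ∀ a ∈ socle k A, n.ofConv a = algebraMap k R (CoalgebraStruct.counit (R := k) a)) {a : A}
    (ha : a ∈ socle k A) :
    (g * n * g').ofConv a = algebraMap k R (CoalgebraStruct.counit (R := k) a) := by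
  have h1 : (g * (n * g')).ofConv a = (g * g').ofConv a := by
    show LinearMap.mul' k R (TensorProduct.map g.ofConv.toLinearMap (n * g').ofConv.toLinearMap
        (CoalgebraStruct.comul (R := k) a)) =
      LinearMap.mul' k R (TensorProduct.map g.ofConv.toLinearMap g'.ofConv.toLinearMap
        (CoalgebraStruct.comul (R := k) a))
    refine comul_socle_induction (LinearMap.mul' k R ∘ₗ TensorProduct.map _ _)
      (LinearMap.mul' k R ∘ₗ TensorProduct.map _ _) (fun p _ r hr => ?_) ha
    show g.ofConv p * (n * g').ofConv r = g.ofConv p * g'.ofConv r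
    rw [mul_apply_socle n g' hn hr]
  rw [_root_.mul_assoc, h1, hg]
  rfl

end

end Groth.Agent.H20Red
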