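import Groth.Agent.H20Red.LieAlg
import Groth.Agent.H20Red.Kernel
import Groth.Agent.H20FF.Coinv
import Groth.Agent.H20Comod.Reynolds
import Mathlib.Algebra.Lie.Abelian
import Mathlib.FieldTheory.IsAlgClosed.AlgebraicClosure
import Mathlib.FieldTheory.Perfect
import Mathlib.LinearAlgebra.Eigenspace.Basic
import Mathlib.RingTheory.TensorProduct.Basic

/-!
For a connected group in characteristic zero without unipotent kernel: the simple comodules detect the Lie algebra
and the centre of the Lie algebra acts semisimply.
-/

set_option autoImplicit false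
set_option linter.style.haveILetI false
set_option backward.isDefEq.respectTransparency false

universe u w

open TensorProduct HopfRep
open Groth.Agent.H20Comod Groth.Agent.H20Inf

attribute [local instance 100] LieRing.ofAssociativeRing

namespace Groth.Agent.H20Red

noncomputable section

section Diag

variable {k : Type u} [Field k] {A : Type u} [CommRing A] [Algebra k A]
variable (K : Type u) [Field K] [Algebra k K]

theorem ker_aeval_prod_le {M : Type w} [AddCommGroup M] [Module K M] (f : Module.End K M) (s : Finset K) :
    LinearMap.ker (Polynomial.aeval f (∏ r ∈ s, (Polynomial.X - Polynomial.C r))) ≤ ⨆ r : K, f.eigenspace r := by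
  classical
  induction s using Finset.induction_on with
  | empty => simp [LinearMap.ker_id, Module.End.one_eq_id]
  | insert r s hr ih =>
    rw [Finset.prod_insert hr]
    rw [← Polynomial.sup_ker_aeval_eq_ker_aeval_mul_of_coprime]
    · refine sup_le ?_ ih
      refine le_iSup_of_le r fun v hv => ?_
      rw [LinearMap.mem_ker] at hv
      rw [Module.End.mem_eigenspace_iff, ← sub_eq_zero]
      simpa [Module.algebraMap_end_apply] using hv
    · refine IsCoprime.prod_right fun t ht => Polynomial.isCoprime_X_sub_C_of_isUnit_sub ?_
      exact isUnit_iff_ne_zero.2 (sub_ne_zero.2 fun h => hr (h ▸ ht))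

variable (D : A →ₗ[k] A) (hD : ∀ a b, D (a * b) = a * D b + b * D a)

include hD in
theorem baseChange_leibniz (x y : K ⊗[k] A) :
    D.baseChange K (x * y) = x * D.baseChange K y + y * D.baseChange K x := by
  induction x using TensorProduct.induction_on with
  | zero => simp
  | tmul c a =>
    induction y using TensorProduct.induction_on with
    | zero => simp
    | tmul d b =>
      simp only [LinearMap.baseChange_tmul, Algebra.TensorProduct.tmul_mul_tmul, hD, TensorProduct.tmul_add, mul_comm d c]
    | add u v hu hv => simp only [map_add, mul_add, add_mul, hu, hv]; abel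
  | add u v hu hv => simp only [map_add, mul_add, add_mul, hu, hv]; abel

/-- The span of the eigenvectors. -/
def eigSpan : Submodule K (K ⊗[k] A) := ⨆ r : K, Module.End.eigenspace (D.baseChange K) r

include hD in
theorem mul_mem_eigSpan {x y : K ⊗[k] A} (hx : x ∈ eigSpan K D) (hy : y ∈ eigSpan K D) :
    x * y ∈ eigSpan K D := by
  unfold eigSpan at hx hy
  induction hx using Submodule.iSup_induction' with
  | mem r p hp =>
    induction hy using Submodule.iSup_induction' with
    | mem s q hq =>
      refine Submodule.mem_iSup_of_mem (r + s) ?_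
      rw [Module.End.mem_eigenspace_iff] at hp hq ⊢
      rw [baseChange_leibniz K D hD, hp, hq, mul_smul_comm, mul_smul_comm, mul_comm q p, add_comm, add_smul]
    | zero => rw [mul_zero]; exact zero_mem _
    | add a b _ _ ha hb => rw [mul_add]; exact add_mem ha hb
  | zero => rw [zero_mul]; exact zero_mem _
  | add a b _ _ ha hb => rw [add_mul]; exact add_mem ha hb

theorem aeval_baseChange (p : Polynomial k) (a : A) (c : K) :
    Polynomial.aeval (D.baseChange K) (p.map (algebraMap k K)) (c ⊗ₜ[k] a) =
      c ⊗ₜ[k] (Polynomial.aeval (R := k) (D : Module.End k A) p a) := by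
  rw [Polynomial.aeval_map_algebraMap]
  induction p using Polynomial.induction_on' with
  | add p q hp hq => simp only [map_add, LinearMap.add_apply, hp, hq, TensorProduct.tmul_add]
  | monomial n r =>
    simp only [Polynomial.aeval_monomial, Module.End.mul_apply, Module.algebraMap_end_apply,
      TensorProduct.tmul_smul]
    congr 1
    induction n generalizing a with
    | zero => simp
    | succ n ih => rw [pow_succ, pow_succ, Module.End.mul_apply, Module.End.mul_apply, LinearMap.baseChange_tmul, ih]

theorem tmul_mem_eigSpan [IsAlgClosed K] {p : Polynomial k} (hp : p.Separable) {a : A}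
    (ha : Polynomial.aeval (R := k) (D : Module.End k A) p a = 0) : (1 : K) ⊗ₜ[k] a ∈ eigSpan K D := by
  classical
  let P := p.map (algebraMap k K)
  have hP : P.Splits := IsAlgClosed.splits P
  have hP0 : P ≠ 0 := hp.map.ne_zero
  have hnd : P.roots.Nodup := Polynomial.nodup_roots hp.map
  have heq : P = Polynomial.C P.leadingCoeff * ∏ r ∈ P.roots.toFinset, (Polynomial.X - Polynomial.C r) := by
    conv_lhs => rw [hP.eq_prod_roots]
    congr 1
    rw [Finset.prod_eq_multiset_prod, Multiset.toFinset_val, Multiset.dedup_eq_self.2 hnd]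
  refine ker_aeval_prod_le K (D.baseChange K) P.roots.toFinset (LinearMap.mem_ker.2 ?_)
  have h : Polynomial.aeval (D.baseChange K) P ((1 : K) ⊗ₜ[k] a) = 0 := by
    rw [aeval_baseChange, ha, TensorProduct.tmul_zero]
  rw [heq, map_mul, Polynomial.aeval_C, Module.End.mul_apply, Module.algebraMap_end_apply] at h
  exact (smul_eq_zero.1 h).resolve_left (Polynomial.leadingCoeff_ne_zero.2 hP0)

include hD in
/-- A derivation which is semisimple on a generating set has no nontrivial Jordan blocks of eigenvalue zero. -/
theorem apply_eq_zero_of_sq (s : Set A) (hs : Algebra.adjoin k s = ⊤)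
    (h : ∀ a ∈ s, ∃ p : Polynomial k, p.Separable ∧ Polynomial.aeval (R := k) (D : Module.End k A) p a = 0)
    {a : A} (ha : D (D a) = 0) : D a = 0 := by
  let K := AlgebraicClosure k
  have h1 : D 1 = 0 := by
    have := hD 1 1
    rw [mul_one, one_mul] at this
    simpa using this
  have hone : (1 : K ⊗[k] A) ∈ eigSpan K D := by
    refine Submodule.mem_iSup_of_mem (0 : K) ?_
    rw [Module.End.mem_eigenspace_iff, Algebra.TensorProduct.one_def, LinearMap.baseChange_tmul, h1,
      TensorProduct.tmul_zero, zero_smul]
  have hall : ∀ b : A, (1 : K) ⊗ₜ[k] b ∈ eigSpan K D := by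
    intro b
    have hb : b ∈ Algebra.adjoin k s := hs ▸ Algebra.mem_top
    induction hb using Algebra.adjoin_induction with
    | mem x hx =>
      obtain ⟨p, hp, hpx⟩ := h x hx
      exact tmul_mem_eigSpan K D hp hpx
    | algebraMap r =>
      rw [Algebra.algebraMap_eq_smul_one, TensorProduct.tmul_smul, ← algebraMap_smul K r,
        ← Algebra.TensorProduct.one_def]
      exact Submodule.smul_mem _ _ hone
    | add x y _ _ hx hy => rw [TensorProduct.tmul_add]; exact add_mem hx hy
    | mul x y _ _ hx hy =>
      rw [show (1 : K) ⊗ₜ[k] (x * y) = ((1 : K) ⊗ₜ[k] x) * ((1 : K) ⊗ₜ[k] y) by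
        rw [Algebra.TensorProduct.tmul_mul_tmul, one_mul]]
      exact mul_mem_eigSpan K D hD hx hy
  -- decompose `1 ⊗ a` into eigenvectors
  have hmem := hall a
  rw [eigSpan, Submodule.mem_iSup_iff_exists_finsupp] at hmem
  obtain ⟨c, hc, hsum⟩ := hmem
  have happ : ∀ r, D.baseChange K (c r) = r • c r := fun r => Module.End.mem_eigenspace_iff.1 (hc r)
  have h2 : (c.sum fun r x => (r * r) • x) = 0 := by
    have := congrArg (fun z => D.baseChange K (D.baseChange K z)) hsum
    simp only [map_finsuppSum, LinearMap.baseChange_tmul, ha, TensorProduct.tmul_zero] at this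
    refine Eq.trans (Finset.sum_congr rfl fun r _ => ?_) this
    show (r * r) • c r = D.baseChange K (D.baseChange K (c r))
    rw [happ, map_smul, happ, smul_smul]
  have hzero : ∀ r ∈ c.support, r = 0 := by
    intro r hr
    have := iSupIndep_iff_finset_sum_eq_zero_imp_eq_zero _ |>.1
      (Module.End.eigenspaces_iSupIndep (D.baseChange K)) c.support (fun r => (r * r) • c r)
      (fun r _ => Submodule.smul_mem _ _ (hc r)) h2 r hr
    rcases smul_eq_zero.1 this with h | h
    · exact mul_self_eq_zero.1 h
    · exact absurd h (Finsupp.mem_support_iff.1 hr)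
  have h3 : (1 : K) ⊗ₜ[k] D a = 0 := by
    have e := congrArg (D.baseChange K) hsum
    rw [LinearMap.baseChange_tmul] at e
    rw [← e, map_finsuppSum]
    refine Finset.sum_eq_zero fun r hr => ?_
    show D.baseChange K (c r) = 0
    rw [happ, hzero r hr, zero_smul]
  exact Algebra.TensorProduct.includeRight_injective (R := k) (A := K) (algebraMap k K).injective
    (h3.trans (TensorProduct.tmul_zero A (1 : K)).symm)

end Diag

variable {k : Type u} [Field k] {A : Type u} [CommRing A] [HopfAlgebra k A]

theorem isSimpleComod_restr {m : Submodule (DualAlg k A) A} (hm : IsSimpleModule (DualAlg k A) m) :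
    letI := ComodSub.Comod.restr (inferInstance : Comod k A A) (m.restrictScalars k) (isSubcomod_restrictScalars m)
    IsSimpleComod k A (m.restrictScalars k) := by
  let W : Submodule k A := m.restrictScalars k
  have hW : IsSubcomod (k := k) (A := A) W := isSubcomod_restrictScalars m
  letI cW := ComodSub.Comod.restr (inferInstance : Comod k A A) W hW
  have hsub := ComodSub.isComodHom_subtype (inferInstance : Comod k A A) W hW
  haveI := hm
  haveI := IsSimpleModule.nontrivial (DualAlg k A) m
  refine ⟨inferInstanceAs (Nontrivial m), fun U hU => ?_⟩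
  have h := isSubcomod_map hsub hU
  rcases IsSimpleOrder.eq_bot_or_eq_top ((toSub _ h).comap m.subtype) with h0 | h0
  · left
    rw [eq_bot_iff]
    intro u hu
    have : (⟨(u : A), u.2⟩ : m) ∈ (toSub _ h).comap m.subtype := ⟨u, hu, rfl⟩
    rw [h0, Submodule.mem_bot] at this
    exact (Submodule.mem_bot k).2 (Subtype.ext (congrArg Subtype.val this :))
  · right
    rw [eq_top_iff]
    intro u _
    obtain ⟨u', hu', e⟩ := (h0 ▸ Submodule.mem_top : (⟨(u : A), u.2⟩ : m) ∈ (toSub _ h).comap m.subtype)
    rwa [show u' = u from Subtype.ext e] at hu'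

theorem form_one (x : LieG k A) : form x 1 = 0 := by
  obtain ⟨ξ, h, -⟩ := exists_form_eq x
  rw [h]; exact lin_one ξ

/-- Simple subcomodules detect the Lie algebra. -/
theorem eq_zero_of_forall_simple (hI : kerIdeal k A = RingHom.ker (Bialgebra.counitAlgHom k A)) {x : LieG k A}
    (h : ∀ m : Submodule (DualAlg k A) A, IsSimpleModule (DualAlg k A) m → ∀ a ∈ m, x.1 a = 0) : x = 0 := by
  have hsoc : ∀ a ∈ socle k A, x.1 a = 0 := by
    intro a ha
    rw [socle, sSup_eq_iSup'] at ha
    induction ha using Submodule.iSup_induction' with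
    | mem m y hy => exact h m.1 m.2 y hy
    | zero => exact map_zero _
    | add y z _ _ hy hz => rw [map_add, hy, hz, add_zero]
  have hfs : ∀ a ∈ socle k A, form x a = 0 := fun a ha => by
    show CoalgebraStruct.counit (R := k) (x.1 a) = 0
    rw [hsoc a ha, map_zero]
  have hker : ∀ a, CoalgebraStruct.counit (R := k) a = 0 → form x a = 0 := by
    intro a ha
    have hmem : a ∈ kerIdeal k A := hI ▸ ha
    refine (?_ : CoalgebraStruct.counit (R := k) a = 0 ∧ form x a = 0).2
    clear ha
    rw [kerIdeal] at hmem
    induction hmem using Submodule.span_induction with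
    | mem z hz =>
      obtain ⟨b, hb, rfl⟩ := hz
      refine ⟨by simp [Bialgebra.counit_one], ?_⟩
      rw [map_sub, map_smul, form_one, smul_zero, sub_zero]
      exact hfs b hb
    | zero => exact ⟨map_zero _, map_zero _⟩
    | add p q _ _ hp hq => exact ⟨by rw [map_add, hp.1, hq.1, add_zero], by rw [map_add, hp.2, hq.2, add_zero]⟩
    | smul c p _ hp =>
      rw [smul_eq_mul]
      exact ⟨by rw [Bialgebra.counit_mul, hp.1, mul_zero], by rw [form_mul, hp.1, hp.2, mul_zero, zero_mul, add_zero]⟩
  refine ext_form (LinearMap.ext fun a => ?_)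
  have := hker (a - CoalgebraStruct.counit (R := k) a • (1 : A)) (by simp [Bialgebra.counit_one])
  rw [map_sub, map_smul, form_one, smul_zero, sub_zero] at this
  rw [this]
  show (0 : k) = CoalgebraStruct.counit (R := k) ((0 : A →ₗ[k] A) a)
  rw [LinearMap.zero_apply, map_zero]

theorem form_antipode (x : LieG k A) (b : A) : form x (HopfAlgebra.antipode k b) = - form x b := by
  have e := congrArg (form x) (mul'_antipode (k := k) b)
  rw [Algebra.algebraMap_eq_smul_one, map_smul, form_one, smul_zero] at e
  have key : ∀ z : A ⊗[k] A, form x (LinearMap.mul' k A (TensorProduct.map LinearMap.id (HopfAlgebra.antipode k) z)) =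
      form x (HopfAlgebra.antipode k (TensorProduct.lid k A
        ((CoalgebraStruct.counit (R := k) (A := A)).rTensor A z))) +
      form x (TensorProduct.rid k A ((CoalgebraStruct.counit (R := k) (A := A)).lTensor A z)) := by
    intro z
    induction z using TensorProduct.induction_on with
    | zero => simp
    | tmul p q =>
      simp only [TensorProduct.map_tmul, LinearMap.id_apply, LinearMap.mul'_apply, form_mul,
        LinearMap.rTensor_tmul, LinearMap.lTensor_tmul, TensorProduct.lid_tmul, TensorProduct.rid_tmul, map_smul,
        smul_eq_mul, HopfAlgebra.counit_antipode]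
    | add p q hp hq => simp only [map_add, hp, hq]; abel
  rw [key, Coalgebra.rTensor_counit_comul, Coalgebra.lTensor_counit_comul, TensorProduct.lid_tmul,
    TensorProduct.rid_tmul] at e
  simp only [one_smul] at e
  exact eq_neg_of_add_eq_zero_left e

variable [IsDomain A] [CharZero k] [Algebra.FiniteType k A]

/-- A map commuting with the Lie algebra is a comodule map. -/
theorem coact_intertwine_domain {V : Type w} [AddCommGroup V] [Module k V] [Comod k A V] {V' : Type w}
    [AddCommGroup V'] [Module k V'] [Comod k A V'] (e : V →ₗ[k] V')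
    (h : ∀ (x : LieG k A) (v : V), rho k A V' x (e v) = e (rho k A V x v)) (v : V) :
    Comod.coact (k := k) (A := A) (e v) = e.rTensor A (Comod.coact (k := k) (A := A) v) := by
  refine eq_of_forall_sliceL fun g => sub_eq_zero.1 ?_
  rw [sliceL_rTensor]
  refine eq_zero_of_stable_domain (LinearMap.range (sliceL g ∘ₗ Comod.coact (k := k) (A := A) ∘ₗ e -
    sliceL (g ∘ₗ e) ∘ₗ Comod.coact (k := k) (A := A))) ?_ ?_ ⟨v, rfl⟩
  · rintro ξ _ ⟨w, rfl⟩
    refine ⟨actL (lin ξ) w, ?_⟩
    have h' : ∀ v : V, actL (lin ξ) (e v) = e (actL (lin ξ) v) := fun v => by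
      have := h (ofDer ξ) v
      rwa [rho_apply, rho_apply, form_ofDer] at this
    simp only [LinearMap.sub_apply, LinearMap.comp_apply, map_sub, actL_coef, h']
  · rintro _ ⟨w, rfl⟩
    simp only [LinearMap.sub_apply, LinearMap.comp_apply, map_sub]
    rw [← apply_sliceR_eq_apply_sliceL, ← apply_sliceR_eq_apply_sliceL, ← actL_apply, ← actL_apply, actL_counit,
      actL_counit]
    exact sub_self _

variable {V : Type u} [AddCommGroup V] [Module k V] [Comod k A V]

theorem rho_comm_of_mem_center {z : LieG k A} (hz : z ∈ LieAlgebra.center k (LieG k A)) (x : LieG k A) (v : V) :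
    rho k A V x (rho k A V z v) = rho k A V z (rho k A V x v) := by
  have h := (rho k A V).map_lie x z
  rw [(LieModule.mem_maxTrivSubmodule k (LieG k A) (LieG k A) z).1 hz x, map_zero,
    LieRing.of_associative_ring_bracket] at h
  exact LinearMap.congr_fun (sub_eq_zero.1 h.symm) v

/-- A central element of the Lie algebra commutes with the action of the dual algebra. -/
theorem rho_actL_comm {z : LieG k A} (hz : z ∈ LieAlgebra.center k (LieG k A)) (φ : A →ₗ[k] k) (v : V) :
    rho k A V z (actL φ v) = actL φ (rho k A V z v) := by
  have h := coact_intertwine_domain (rho k A V z) (fun x w => rho_comm_of_mem_center hz x w) v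
  rw [actL_apply, actL_apply, h]
  induction Comod.coact (k := k) (A := A) v using TensorProduct.induction_on with
  | zero => simp
  | tmul p q => simp [map_smul]
  | add p q hp hq => simp only [map_add, hp, hq]

/-- A central element acts semisimply on a simple comodule. -/
theorem exists_separable_of_simple [FiniteDimensional k V] (hV : IsSimpleComod k A V) {z : LieG k A}
    (hz : z ∈ LieAlgebra.center k (LieG k A)) :
    ∃ p : Polynomial k, p.Separable ∧ Polynomial.aeval (rho k A V z : Module.End k V) p = 0 := by
  haveI := hV.1
  let f : Module.End k V := rho k A V z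
  have hcomm : ∀ (q : Polynomial k) (x : LieG k A), Commute (rho k A V x) (Polynomial.aeval f q) := by
    intro q x
    have : Commute (rho k A V x) f := LinearMap.ext fun v => rho_comm_of_mem_center hz x v
    exact Algebra.commute_of_mem_adjoin_singleton_of_commute (Polynomial.aeval_mem_adjoin_singleton k f) this
  have hirr : ∀ q : Polynomial k, LinearMap.ker (Polynomial.aeval f q) = ⊥ ∨ Polynomial.aeval f q = 0 := by
    intro q
    refine (hV.2 _ (isSubcomod_of_stable_domain _ fun x v hv => ?_)).imp id LinearMap.ker_eq_top.1
    rw [LinearMap.mem_ker] at hv ⊢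
    rw [← Module.End.mul_apply, ← (hcomm q x).eq, Module.End.mul_apply, hv, map_zero]
  have hint : IsIntegral k f := Algebra.IsIntegral.isIntegral f
  have hirred : Irreducible (minpoly k f) := by
    refine ⟨minpoly.not_isUnit k f, fun p q hpq => ?_⟩
    have h0 : Polynomial.aeval f p * Polynomial.aeval f q = 0 := by rw [← map_mul, ← hpq, minpoly.aeval]
    have hne := minpoly.ne_zero hint
    have hp0 : p ≠ 0 := fun h => hne (by rw [hpq, h, zero_mul])
    have hq0 : q ≠ 0 := fun h => hne (by rw [hpq, h, mul_zero])
    have hu : ∀ r : Polynomial k, r ≠ 0 → r.natDegree = 0 → IsUnit r := fun r hr hd =>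
      Polynomial.isUnit_iff_degree_eq_zero.2 (by rw [Polynomial.degree_eq_natDegree hr, hd]; rfl)
    rcases hirr p with h | h
    · have hq : Polynomial.aeval f q = 0 := LinearMap.ext fun v =>
        (LinearMap.ker_eq_bot'.1 h) _ (LinearMap.congr_fun h0 v)
      have hle := Polynomial.natDegree_le_of_dvd (minpoly.dvd k f hq) hq0
      rw [hpq, Polynomial.natDegree_mul hp0 hq0] at hle
      exact Or.inl (hu p hp0 (by omega))
    · have hle := Polynomial.natDegree_le_of_dvd (minpoly.dvd k f h) hp0
      rw [hpq, Polynomial.natDegree_mul hp0 hq0] at hle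
      exact Or.inr (hu q hq0 (by omega))
  exact ⟨minpoly k f, hirred.separable, minpoly.aeval k f⟩

theorem mem_socle_rho (z : LieG k A) {a : A} (ha : a ∈ socle k A) : z.1 a ∈ socle k A := by
  rw [coe_eq_actL z]
  exact (socle k A).smul_mem (DualAlg.mk (form z)) ha

theorem sliceL_form_eq {z : LieG k A} (hz : z ∈ LieAlgebra.center k (LieG k A)) (a : A) :
    sliceL (form z) (CoalgebraStruct.comul (R := k) a) = z.1 a := by
  refine sub_eq_zero.1 ((Module.forall_dual_apply_eq_zero_iff k _).1 fun φ => ?_)
  rw [map_sub, sub_eq_zero, coe_eq_actL z]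
  calc φ (sliceL (form z) (CoalgebraStruct.comul (R := k) a))
      = H20Comod.conv (form z) φ a := (conv_apply_sliceL (form z) φ a).symm
    _ = CoalgebraStruct.counit (R := k) (actL (form z) (actL φ a)) := by rw [← actL_conv, counit_actL]
    _ = CoalgebraStruct.counit (R := k) (actL φ (actL (form z) a)) := by
        rw [show actL (form z) (actL φ a) = actL φ (actL (form z) a) from rho_actL_comm (V := A) hz φ a]
    _ = φ (actL (form z) a) := counit_actL φ _

theorem apply_antipode {z : LieG k A} (hz : z ∈ LieAlgebra.center k (LieG k A)) (a : A) :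
    z.1 (HopfAlgebra.antipode k a) = - HopfAlgebra.antipode k (z.1 a) := by
  rw [← sliceL_form_eq hz a, coe_eq_actL z, actL_apply]
  show sliceR (form z) (CoalgebraStruct.comul (R := k) (HopfAlgebra.antipode k a)) = _
  rw [comul_antipode]
  induction CoalgebraStruct.comul (R := k) a using TensorProduct.induction_on with
  | zero => simp
  | tmul p q => simp [form_antipode, neg_smul]
  | add p q hp hq => simp only [map_add, hp, hq, neg_add]

theorem isHopfSub_adjoin_socle :
    H20FF.IsHopfSub (Algebra.adjoin k
      ((socle k A : Set A) ∪ HopfAlgebra.antipode k '' (socle k A : Set A))) := by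
  let s : Set A := (socle k A : Set A) ∪ HopfAlgebra.antipode k '' (socle k A : Set A)
  let C := Algebra.adjoin k s
  let Φ : C ⊗[k] C →ₐ[k] A ⊗[k] A := Algebra.TensorProduct.map C.val C.val
  constructor
  · have : C ≤ Φ.range.comap (Bialgebra.comulAlgHom k A) := by
      refine Algebra.adjoin_le ?_
      rintro b (hb | ⟨a, ha, rfl⟩)
      · show CoalgebraStruct.comul (R := k) b ∈ Φ.range
        obtain ⟨z, hz⟩ := isSubcoalg_socle (k := k) (A := A) b hb
        rw [← hz]
        clear hz
        induction z using TensorProduct.induction_on with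
        | zero => rw [map_zero]; exact zero_mem _
        | tmul p q =>
          exact ⟨(⟨(p : A), Algebra.subset_adjoin (Or.inl p.2)⟩ : C) ⊗ₜ ⟨(q : A), Algebra.subset_adjoin (Or.inl q.2)⟩, rfl⟩
        | add p q hp hq => rw [map_add]; exact add_mem hp hq
      · show CoalgebraStruct.comul (R := k) (HopfAlgebra.antipode k a) ∈ Φ.range
        rw [comul_antipode]
        obtain ⟨z, hz⟩ := isSubcoalg_socle (k := k) (A := A) a ha
        rw [← hz]
        clear hz
        induction z using TensorProduct.induction_on with
        | zero => simp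
        | tmul p q =>
          exact ⟨(⟨_, Algebra.subset_adjoin (Or.inr ⟨(q : A), q.2, rfl⟩)⟩ : C) ⊗ₜ
            ⟨_, Algebra.subset_adjoin (Or.inr ⟨(p : A), p.2, rfl⟩)⟩, rfl⟩
        | add p q hp hq => simp only [map_add]; exact add_mem hp hq
    intro b hb
    obtain ⟨z, hz⟩ := this hb
    exact ⟨z, hz⟩
  · have : C ≤ C.comap (HopfAlgebra.antipodeAlgHom k A) := by
      refine Algebra.adjoin_le ?_
      rintro b (hb | ⟨a, ha, rfl⟩)
      · exact Algebra.subset_adjoin (Or.inr ⟨b, hb, rfl⟩)
      · show HopfAlgebra.antipode k (HopfAlgebra.antipode k a) ∈ C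
        rw [antipode_antipode]
        exact Algebra.subset_adjoin (Or.inl ha)
    exact fun b hb => this hb

theorem adjoin_socle_eq_top (hI : kerIdeal k A = RingHom.ker (Bialgebra.counitAlgHom k A)) :
    Algebra.adjoin k ((socle k A : Set A) ∪ HopfAlgebra.antipode k '' (socle k A : Set A)) = ⊤ := by
  let C := Algebra.adjoin k ((socle k A : Set A) ∪ HopfAlgebra.antipode k '' (socle k A : Set A))
  letI := H20FF.subHopf (isHopfSub_adjoin_socle (k := k) (A := A))
  let ι : C →ₐc[k] A := H20FF.subVal (isHopfSub_adjoin_socle (k := k) (A := A))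
  refine eq_top_iff.2 fun a _ => ?_
  obtain ⟨b, hb⟩ := H20FF.mem_range_of_coinvariant ι (Bialgebra.counitBialgHom k A) (c := a) Subtype.val_injective
    (fun r => ⟨algebraMap k A r, (Bialgebra.counitAlgHom k A).commutes r⟩) (fun y hy => by
      have hy' : y ∈ kerIdeal k A := hI ▸ hy
      refine (Ideal.span_le.2 ?_ : kerIdeal k A ≤ _) hy'
      rintro _ ⟨s, hs, rfl⟩
      refine Ideal.subset_span ⟨(⟨s, Algebra.subset_adjoin (Or.inl hs)⟩ : C) -
        CoalgebraStruct.counit (R := k) s • 1, ?_, ?_⟩
      · show CoalgebraStruct.counit (R := k) (((⟨s, Algebra.subset_adjoin (Or.inl hs)⟩ : C) -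
          CoalgebraStruct.counit (R := k) s • 1 : C) : A) = 0
        simp [Bialgebra.counit_one]
      · rfl)
    (Coalgebra.lTensor_counit_comul a)
  exact hb ▸ (b.2 : (ι b : A) ∈ C)

/-- The centre of the Lie algebra acts without nilpotent blocks of eigenvalue zero. -/
theorem sq_apply_eq_zero (hI : kerIdeal k A = RingHom.ker (Bialgebra.counitAlgHom k A)) {z : LieG k A}
    (hz : z ∈ LieAlgebra.center k (LieG k A)) {v : V} (hv : rho k A V z (rho k A V z v) = 0) :
    rho k A V z v = 0 := by
  have hD : ∀ a b, z.1 (a * b) = a * z.1 b + b * z.1 a := by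
    obtain ⟨ξ, -, h2⟩ := exists_form_eq z
    rw [h2]
    exact actL_lin_mul ξ
  let T : Set A := {a | ∃ p : Polynomial k, p.Separable ∧ Polynomial.aeval (R := k) (z.1 : Module.End k A) p a = 0}
  have hsimp : ∀ m : Submodule (DualAlg k A) A, IsSimpleModule (DualAlg k A) m → ∀ y ∈ m, y ∈ T := by
    intro m hm y hy
    let W : Submodule k A := m.restrictScalars k
    have hW : IsSubcomod (k := k) (A := A) W := isSubcomod_restrictScalars m
    letI cW := ComodSub.Comod.restr (inferInstance : Comod k A A) W hW
    have hsub := ComodSub.isComodHom_subtype (inferInstance : Comod k A A) W hW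
    have hWs : IsSimpleComod k A W := isSimpleComod_restr hm
    haveI : FiniteDimensional k W := finite_of_isSimpleModule (isSimpleComod_iff.1 hWs)
    obtain ⟨p, hp, hp0⟩ := exists_separable_of_simple hWs hz
    refine ⟨p, hp, ?_⟩
    have hint : ∀ (q : Polynomial k) (w : W), Polynomial.aeval (R := k) (z.1 : Module.End k A) q (w : A) =
        ((Polynomial.aeval (rho k A W z : Module.End k W) q w : W) : A) := by
      intro q
      induction q using Polynomial.induction_on' with
      | add p q hp hq => intro w; simp [hp, hq]
      | monomial n r =>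
        intro w
        simp only [Polynomial.aeval_monomial, Module.End.mul_apply, Module.algebraMap_end_apply]
        rw [Submodule.coe_smul]
        congr 1
        induction n generalizing w with
        | zero => simp
        | succ n ih =>
          rw [pow_succ, pow_succ, Module.End.mul_apply, Module.End.mul_apply, ← ih]
          congr 1
          rw [coe_eq_actL z, rho_apply]
          exact (actL_comm_of_isComodHom hsub (form z) w).symm
    exact (hint p ⟨y, hy⟩).trans (by rw [hp0]; rfl)
  have hneg : ∀ c ∈ T, HopfAlgebra.antipode k c ∈ T := by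
    rintro c ⟨p, hp, hpc⟩
    refine ⟨p.comp (-Polynomial.X), ?_, ?_⟩
    · have h := IsCoprime.map hp (Polynomial.compRingHom (-Polynomial.X : Polynomial k))
      rw [Polynomial.coe_compRingHom_apply, Polynomial.coe_compRingHom_apply] at h
      rw [Polynomial.separable_def, Polynomial.derivative_comp, Polynomial.derivative_neg, Polynomial.derivative_X,
        neg_one_mul]
      exact h.neg_right
    · have key : ∀ (q : Polynomial k),
          Polynomial.aeval (R := k) (z.1 : Module.End k A) (q.comp (-Polynomial.X)) (HopfAlgebra.antipode k c) =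
            HopfAlgebra.antipode k (Polynomial.aeval (R := k) (z.1 : Module.End k A) q c) := by
        intro q
        rw [Polynomial.aeval_comp, map_neg, Polynomial.aeval_X]
        induction q using Polynomial.induction_on' with
        | add p q hp hq => simp [hp, hq]
        | monomial n r =>
          simp only [Polynomial.aeval_monomial, Module.End.mul_apply, Module.algebraMap_end_apply, map_smul]
          congr 1
          clear hpc
          induction n generalizing c with
          | zero => simp
          | succ n ih =>
            rw [pow_succ, pow_succ, Module.End.mul_apply, Module.End.mul_apply, LinearMap.neg_apply,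
              apply_antipode hz, neg_neg, ih]
      rw [key, hpc, map_zero]
  have hT : Algebra.adjoin k T = ⊤ := by
    refine eq_top_iff.2 ((adjoin_socle_eq_top hI).ge.trans (Algebra.adjoin_le ?_))
    rintro b (hb | ⟨c, hc, rfl⟩)
    · have hb' : b ∈ socle k A := hb
      rw [socle, sSup_eq_iSup'] at hb'
      clear hb
      induction hb' using Submodule.iSup_induction' with
      | mem m y hy => exact Algebra.subset_adjoin (hsimp m.1 m.2 y hy)
      | zero => exact zero_mem _
      | add y y' _ _ hy hy' => exact add_mem hy hy'
    · have hc' : c ∈ socle k A := hc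
      rw [socle, sSup_eq_iSup'] at hc'
      clear hc
      induction hc' using Submodule.iSup_induction' with
      | mem m y hy => exact Algebra.subset_adjoin (hneg y (hsimp m.1 m.2 y hy))
      | zero => rw [map_zero]; exact zero_mem _
      | add y y' _ _ hy hy' => rw [map_add]; exact add_mem hy hy'
  have hA : ∀ a : A, z.1 (z.1 a) = 0 → z.1 a = 0 := fun a ha =>
    apply_eq_zero_of_sq z.1 hD T hT (fun b hb => hb) ha
  refine (Module.forall_dual_apply_eq_zero_iff k _).1 fun g => ?_
  have hco : ∀ w : V, z.1 (coeff A g w) = coeff A g (rho k A V z w) := fun w => by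
    rw [coe_eq_actL z]
    exact actL_coef (form z) g w
  have h0 : coeff A g (rho k A V z v) = 0 := by
    rw [← hco]
    refine hA _ ?_
    rw [hco, hco, hv, map_zero]
  have := congrArg (CoalgebraStruct.counit (R := k)) h0
  rwa [map_zero, apply_coeff, actL_counit] at this

end

end Groth.Agent.H20Red
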