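import Groth.Agent.H20Red.Scheme
import Groth.Agent.H20Comod.LinRedCrit
import Groth.Agent.H20Comod.LinRed

/-!
A reductive group in characteristic zero given by a Hopf algebra is of finite type, connected and linearly
reductive.
-/

set_option autoImplicit false
set_option linter.style.haveILetI false
set_option backward.isDefEq.respectTransparency false

universe u

open CategoryTheory MonoidalCategory CartesianMonoidalCategory MonObj GrpObj AlgebraicGeometry
open HopfRep

namespace Groth.Agent.H20Red

noncomputable section

variable {k : Type u} [Field k] {A : Type u} [CommRing A] [HopfAlgebra k A]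

theorem finiteType_of_isReductive (hG : Red.IsReductive (CoactBr.sp k A)) : Algebra.FiniteType k A := by
  haveI : Smooth (CoactBr.sp k A).hom := hG.2.1
  have h : (CommRingCat.ofHom (algebraMap k A)).hom.FiniteType :=
    (HasRingHomProperty.Spec_iff (P := @LocallyOfFiniteType)).1
      (show LocallyOfFiniteType (CoactBr.sp k A).hom from inferInstance)
  exact RingHom.finiteType_algebraMap.1 h

theorem connectedSpace_of_isReductive (hG : Red.IsReductive (CoactBr.sp k A)) :
    ConnectedSpace ↥(Spec (CommRingCat.of A)) := by
  obtain ⟨s⟩ : Nonempty ↥(Spec (CommRingCat.of k)) := inferInstanceAs (Nonempty (PrimeSpectrum k))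
  haveI : Subsingleton ↥(Spec (CommRingCat.of k)) := inferInstanceAs (Subsingleton (PrimeSpectrum k))
  haveI : Surjective (Red.geomPt s) := ⟨fun x => by
    obtain ⟨y⟩ : Nonempty ↥(Spec (CommRingCat.of (AlgebraicClosure ((Spec (CommRingCat.of k)).residueField s)))) :=
      inferInstanceAs (Nonempty (PrimeSpectrum (AlgebraicClosure ((Spec (CommRingCat.of k)).residueField s))))
    exact ⟨y, Subsingleton.elim _ _⟩⟩
  haveI h : ConnectedSpace ↥(Limits.pullback (CoactBr.sp k A).hom (Red.geomPt s)) := (hG.2.2 s).2.2.1
  haveI : Surjective (Limits.pullback.fst (CoactBr.sp k A).hom (Red.geomPt s)) :=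
    MorphismProperty.pullback_fst (P := @Surjective) _ _ inferInstance
  exact (Limits.pullback.fst (CoactBr.sp k A).hom (Red.geomPt s)).surjective.connectedSpace
    (Limits.pullback.fst (CoactBr.sp k A).hom (Red.geomPt s)).continuous

theorem isLinearlyReductive_of_isReductive [CharZero k] (hG : Red.IsReductive (CoactBr.sp k A)) :
    IsLinearlyReductive k A := by
  haveI := finiteType_of_isReductive hG
  haveI := connectedSpace_of_isReductive hG
  exact isReductive_iff_isLinearlyReductive.1 hG

theorem subsingleton_H_of_isReductive [CharZero k] (hG : Red.IsReductive (CoactBr.sp k A))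
    (V : Type u) [AddCommGroup V] [Module k V] [Comod k A V] (n : ℕ) (hn : 1 ≤ n) :
    Subsingleton (Hoch.H k A V n) := by
  obtain ⟨α, hα, h1⟩ := H20Comod.isLinearlyReductive_iff_exists_isIntegral.1 (isLinearlyReductive_of_isReductive hG)
  obtain ⟨m, rfl⟩ : ∃ m, n = m + 1 := ⟨n - 1, by omega⟩
  rw [Submodule.Quotient.subsingleton_iff, Submodule.comap_subtype_eq_top]
  exact H20Comod.cocycles_le_coboundaries_of_isIntegral hα h1 V m

end

end Groth.Agent.H20Red
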