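import Groth.Agent.H20Inf.Comod
import Mathlib.Algebra.Lie.OfAssociative
import Mathlib.RingTheory.Derivation.Basic
import Mathlib.RingTheory.Filtration

/-!
The Lie algebra of an affine group as an algebra of invariant derivations, its action on comodules, and
infinitesimal detection of subcomodules for connected groups in characteristic zero.
-/

set_option autoImplicit false
set_option linter.style.haveILetI false
set_option backward.isDefEq.respectTransparency false

universe u w

open TensorProduct HopfRep
open Groth.Agent.H20Comod Groth.Agent.H20Inf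

attribute [local instance 100] LieRing.ofAssociativeRing

namespace Groth.Agent.H20Red

noncomputable section

variable {k : Type u} [Field k] {A : Type u} [CommRing A] [HopfAlgebra k A]
variable {V : Type w} [AddCommGroup V] [Module k V] [Comod k A V]

theorem actL_add (f g : A →ₗ[k] k) : (actL (f + g) : V →ₗ[k] V) = actL f + actL g := by
  refine LinearMap.ext fun v => ?_
  simp only [actL_apply, LinearMap.add_apply]
  induction Comod.coact (k := k) (A := A) v using TensorProduct.induction_on with
  | zero => simp
  | tmul v a => simp [add_smul]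
  | add x y hx hy => simp only [map_add, hx, hy]; abel

theorem actL_smul (c : k) (f : A →ₗ[k] k) : (actL (c • f) : V →ₗ[k] V) = c • actL f := by
  refine LinearMap.ext fun v => ?_
  simp only [actL_apply, LinearMap.smul_apply]
  induction Comod.coact (k := k) (A := A) v using TensorProduct.induction_on with
  | zero => simp
  | tmul v a => simp [mul_smul]
  | add x y hx hy => simp only [map_add, hx, hy, smul_add]

theorem actL_sub (f g : A →ₗ[k] k) : (actL (f - g) : V →ₗ[k] V) = actL f - actL g := by
  rw [sub_eq_add_neg, sub_eq_add_neg, actL_add, ← neg_one_smul k g, actL_smul, neg_one_smul]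

theorem counit_comp_actL (f : A →ₗ[k] k) :
    (CoalgebraStruct.counit (R := k) (A := A)) ∘ₗ (actL f : A →ₗ[k] A) = f :=
  LinearMap.ext fun a => counit_actL f a

variable (k A) in
/-- The invariant derivations. -/
def invDer : Submodule k (Module.End k A) :=
  { carrier := {D | ∃ ξ : LieHopf.Lie k A, (actL (lin ξ) : A →ₗ[k] A) = D}
    add_mem' := by
      rintro _ _ ⟨ξ, rfl⟩ ⟨η, rfl⟩
      exact ⟨ξ + η, by rw [← actL_add]; rfl⟩
    zero_mem' := ⟨0, by
      rw [show lin (0 : LieHopf.Lie k A) = (0 : k) • lin (0 : LieHopf.Lie k A) from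
        by rw [zero_smul]; exact LinearMap.ext fun a => rfl, actL_smul, zero_smul]⟩
    smul_mem' := by
      rintro c _ ⟨ξ, rfl⟩
      exact ⟨c • ξ, by rw [← actL_smul]; rfl⟩ }

theorem bracket_mem {D E : Module.End k A} (hD : D ∈ invDer k A) (hE : E ∈ invDer k A) :
    D * E - E * D ∈ invDer k A := by
  obtain ⟨ξ, rfl⟩ := hD
  obtain ⟨η, rfl⟩ := hE
  let f : A →ₗ[k] k := H20Comod.conv (lin ξ) (lin η) - H20Comod.conv (lin η) (lin ξ)
  have hf : (actL f : A →ₗ[k] A) =
      actL (lin ξ) ∘ₗ actL (lin η) - actL (lin η) ∘ₗ actL (lin ξ) := by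
    refine LinearMap.ext fun a => ?_
    rw [actL_sub, LinearMap.sub_apply, LinearMap.sub_apply, actL_conv, actL_conv]
    rfl
  have hv : ∀ a, f a = CoalgebraStruct.counit (R := k)
      (actL (lin ξ) (actL (lin η) a) - actL (lin η) (actL (lin ξ) a)) := fun a => by
    rw [← counit_actL f a, hf]
    rfl
  refine ⟨Derivation.mk' (R := k) (A := A) (M := LieHopf.K k A) f fun a b => ?_, hf⟩
  show f (a * b) = Bialgebra.counitAlgHom k A a * f b + Bialgebra.counitAlgHom k A b * f a
  rw [hv, hv, hv]
  simp only [actL_lin_mul, map_add, map_sub, Bialgebra.counit_mul, ← Bialgebra.counitAlgHom_apply, map_mul]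
  ring

variable (k A) in
/-- The invariant derivations as a Lie subalgebra. -/
def invDerLie : LieSubalgebra k (Module.End k A) :=
  { invDer k A with lie_mem' := fun hD hE => bracket_mem hD hE }

variable (k A) in
/-- The Lie algebra of `Spec A`. -/
def LieG : Type u := invDerLie k A

instance : LieRing (LieG k A) := inferInstanceAs (LieRing (invDerLie k A))
instance : LieAlgebra k (LieG k A) := inferInstanceAs (LieAlgebra k (invDerLie k A))

/-- The linear form of an element of the Lie algebra. -/
def form (x : LieG k A) : A →ₗ[k] k := CoalgebraStruct.counit (R := k) ∘ₗ (x.1 : Module.End k A)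

theorem exists_form_eq (x : LieG k A) :
    ∃ ξ : LieHopf.Lie k A, form x = lin ξ ∧ (x.1 : Module.End k A) = actL (lin ξ) := by
  obtain ⟨ξ, hξ⟩ : x.1 ∈ invDer k A := x.2
  exact ⟨ξ, by rw [form, ← hξ, counit_comp_actL], hξ.symm⟩

theorem form_mul (x : LieG k A) (a b : A) :
    form x (a * b) = CoalgebraStruct.counit (R := k) a * form x b + CoalgebraStruct.counit (R := k) b * form x a := by
  obtain ⟨ξ, h, -⟩ := exists_form_eq x
  rw [h]
  exact lin_mul ξ a b

theorem coe_eq_actL (x : LieG k A) : (x.1 : Module.End k A) = actL (form x) := by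
  obtain ⟨ξ, h1, h2⟩ := exists_form_eq x
  rw [h2, h1]

/-- The element of the Lie algebra of a derivation at the unit. -/
def ofDer (ξ : LieHopf.Lie k A) : LieG k A := ⟨actL (lin ξ), ξ, rfl⟩

theorem form_ofDer (ξ : LieHopf.Lie k A) : form (ofDer ξ) = lin ξ := counit_comp_actL _

theorem ext_form {x y : LieG k A} (h : form x = form y) : x = y :=
  Subtype.ext (by rw [coe_eq_actL x, coe_eq_actL y, h])

variable (k A V) in
/-- The action of the Lie algebra on a comodule. -/
def rho : LieG k A →ₗ⁅k⁆ Module.End k V where
  toFun x := actL (form x)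
  map_add' x y := by
    rw [← actL_add]
    refine congrArg actL (LinearMap.ext fun a => ?_)
    show CoalgebraStruct.counit (R := k) (x.1 a + y.1 a) = _
    rw [map_add]; rfl
  map_smul' c x := by
    rw [RingHom.id_apply, ← actL_smul]
    refine congrArg actL (LinearMap.ext fun a => ?_)
    show CoalgebraStruct.counit (R := k) (c • x.1 a) = _
    rw [map_smul]; rfl
  map_lie' {x y} := by
    have h : form ⁅x, y⁆ = H20Comod.conv (form x) (form y) - H20Comod.conv (form y) (form x) := by
      refine LinearMap.ext fun a => ?_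
      show CoalgebraStruct.counit (R := k) (x.1 (y.1 a) - y.1 (x.1 a)) = _
      rw [coe_eq_actL x, coe_eq_actL y, map_sub, ← actL_conv, ← actL_conv, counit_actL, counit_actL]
      rfl
    rw [h, actL_sub, LieRing.of_associative_ring_bracket]
    refine congrArg₂ (· - ·) (LinearMap.ext fun v => ?_) (LinearMap.ext fun v => ?_) <;>
      exact actL_conv _ _ v

theorem rho_apply (x : LieG k A) (v : V) : rho k A V x v = actL (form x) v := rfl

instance finiteDimensional [Algebra.FiniteType k A] : FiniteDimensional k (LieG k A) := by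
  classical
  obtain ⟨s, hs⟩ := (Algebra.FiniteType.out : (⊤ : Subalgebra k A).FG)
  let Φ : LieG k A →ₗ[k] (s → k) :=
    { toFun := fun x a => form x a
      map_add' := fun x y => by
        funext a
        show CoalgebraStruct.counit (R := k) (x.1 (a : A) + y.1 (a : A)) = _
        rw [map_add]; rfl
      map_smul' := fun c x => by
        funext a
        show CoalgebraStruct.counit (R := k) (c • x.1 (a : A)) = _
        rw [map_smul]; rfl }
  refine Module.Finite.of_injective Φ fun x y h => ext_form ?_
  obtain ⟨ξ, hξ, -⟩ := exists_form_eq x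
  obtain ⟨η, hη, -⟩ := exists_form_eq y
  have : ξ = η := Derivation.ext_of_adjoin_eq_top (s : Set A) hs fun a ha => by
    have := congrFun h ⟨a, ha⟩
    change form x a = form y a at this
    rw [hξ, hη] at this
    exact this
  rw [hξ, hη, this]

/-- A space of functions on a connected group stable under the Lie algebra and vanishing at the unit is zero. -/
theorem eq_zero_of_stable_domain [IsDomain A] [CharZero k] [Algebra.FiniteType k A] (W : Submodule k A)
    (hW : ∀ (ξ : LieHopf.Lie k A), ∀ a ∈ W, actL (lin ξ) a ∈ W)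
    (hε : ∀ a ∈ W, CoalgebraStruct.counit (R := k) a = 0) {a : A} (ha : a ∈ W) : a = 0 := by
  haveI : IsNoetherianRing A := Algebra.FiniteType.isNoetherianRing k A
  have hne : aug k A ≠ ⊤ := RingHom.ker_ne_top _
  have h : a ∈ ⨅ i : ℕ, aug k A ^ i :=
    (Submodule.mem_iInf _).2 fun i => mem_pow_aug_of_stable W hW (fun b hb => hε b hb) i a ha
  rwa [Ideal.iInf_pow_eq_bot_of_isDomain (aug k A) hne, Ideal.mem_bot] at h

variable [IsDomain A] [CharZero k] [Algebra.FiniteType k A]

theorem coact_eq_of_forall_rho {v : V} (h : ∀ x : LieG k A, rho k A V x v = 0) :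
    Comod.coact (k := k) (A := A) v = v ⊗ₜ[k] (1 : A) := by
  refine eq_of_forall_sliceL fun g => sub_eq_zero.1 ?_
  rw [sliceL_tmul]
  have hact : ∀ ξ : LieHopf.Lie k A, actL (lin ξ) v = 0 := fun ξ => by
    have := h (ofDer ξ)
    rwa [rho_apply, form_ofDer] at this
  refine eq_zero_of_stable_domain
    (Submodule.span k {sliceL g (Comod.coact (k := k) (A := A) v) - g v • (1 : A)}) ?_ ?_
    (Submodule.mem_span_singleton_self _)
  · intro ξ b hb
    obtain ⟨r, rfl⟩ := Submodule.mem_span_singleton.1 hb
    rw [map_smul, map_sub, map_smul, actL_coef, hact, map_zero, map_zero, actL_lin_one, smul_zero, sub_zero,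
      smul_zero]
    exact zero_mem _
  · intro b hb
    obtain ⟨r, rfl⟩ := Submodule.mem_span_singleton.1 hb
    rw [map_smul, map_sub, map_smul, Bialgebra.counit_one, ← apply_sliceR_eq_apply_sliceL, ← actL_apply, actL_counit,
      smul_eq_mul, smul_eq_mul, mul_one, sub_self, mul_zero]

theorem isSubcomod_of_stable_domain (W : Submodule k V)
    (h : ∀ (x : LieG k A), ∀ v ∈ W, rho k A V x v ∈ W) : IsSubcomod (k := k) (A := A) W := by
  intro v hv
  rw [mem_range_rTensor_subtype_iff_sliceL]
  intro g hg
  refine eq_zero_of_stable_domain (W.map (sliceL g ∘ₗ Comod.coact (k := k) (A := A))) ?_ ?_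
    (Submodule.mem_map_of_mem hv)
  · rintro ξ _ ⟨w, hw, rfl⟩
    refine ⟨actL (lin ξ) w, ?_, (actL_coef (lin ξ) g w).symm⟩
    have := h (ofDer ξ) w hw
    rwa [rho_apply, form_ofDer] at this
  · rintro _ ⟨w, hw, rfl⟩
    show CoalgebraStruct.counit (R := k) (sliceL g (Comod.coact (k := k) (A := A) w)) = 0
    rw [← apply_sliceR_eq_apply_sliceL, ← actL_apply, actL_counit]
    exact hg w hw

/-- A subcomodule is stable under the Lie algebra. -/
theorem rho_mem_of_isSubcomod {W : Submodule k V} (hW : IsSubcomod (k := k) (A := A) W) (x : LieG k A) {v : V}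
    (hv : v ∈ W) : rho k A V x v ∈ W := by
  obtain ⟨z, hz⟩ := hW v hv
  rw [rho_apply, actL_apply, ← hz]
  clear hz
  induction z using TensorProduct.induction_on with
  | zero => simp
  | tmul p a => simp [W.smul_mem _ p.2]
  | add p q hp hq => simp only [map_add]; exact add_mem hp hq

end

end Groth.Agent.H20Red
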