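import Mathlib.Algebra.Lie.CartanCriterion
import Mathlib.Algebra.Lie.Semisimple.Lemmas
import Mathlib.Algebra.Lie.Killing
import Mathlib.LinearAlgebra.BilinearForm.Properties
import Mathlib.LinearAlgebra.Eigenspace.Semisimple
import Mathlib.Algebra.Lie.BaseChange
import Mathlib.FieldTheory.IsAlgClosed.AlgebraicClosure
import Mathlib.LinearAlgebra.Eigenspace.Triangularizable

/-!
Complete reducibility for reductive Lie algebras over fields of characteristic zero, in the form:
a vector which is invariant modulo a submodule can be corrected to an invariant vector, provided the centre acts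
semisimply.
-/

set_option autoImplicit false
set_option linter.style.haveILetI false

universe u v w

open LieModule

namespace Groth.Agent.H20Red

noncomputable section

variable {k : Type u} [Field k] {L : Type v} [LieRing L] [LieAlgebra k L]

variable (k L) in
/-- Every ideal is contained in the sum of its derived ideal and the centre. -/
def PerfectModCenter : Prop :=
  ∀ a : LieIdeal k L, ∀ x ∈ a, ∃ y ∈ ⁅a, a⁆, x - y ∈ LieAlgebra.center k L

/-- The quotient map to the quotient by an ideal. -/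
def quotHom (I : LieIdeal k L) : L →ₗ⁅k⁆ L ⧸ I :=
  { (LieSubmodule.Quotient.mk' I).toLinearMap with
    map_lie' := fun {x y} => LieSubmodule.Quotient.mk_bracket (I := I) x y }

theorem quotHom_eq_zero {I : LieIdeal k L} {x : L} : quotHom I x = 0 ↔ x ∈ I :=
  LieSubmodule.Quotient.mk_eq_zero I

theorem quotHom_surjective (I : LieIdeal k L) : Function.Surjective (quotHom I) :=
  LieSubmodule.Quotient.surjective_mk' I

theorem map_derivedSeriesOfIdeal_le {L' : Type w} [LieRing L'] [LieAlgebra k L'] (f : L →ₗ⁅k⁆ L')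
    (I : LieIdeal k L) (n : ℕ) :
    (LieAlgebra.derivedSeriesOfIdeal k L n I).map f ≤ LieAlgebra.derivedSeriesOfIdeal k L' n (I.map f) := by
  induction n with
  | zero => simp
  | succ n ih =>
    rw [LieAlgebra.derivedSeriesOfIdeal_succ, LieAlgebra.derivedSeriesOfIdeal_succ]
    exact (LieIdeal.map_bracket_le f).trans (LieSubmodule.mono_lie ih ih)

theorem hasTrivialRadical_quot_center [FiniteDimensional k L]
    (h : LieAlgebra.radical k L ≤ LieAlgebra.center k L) :
    LieAlgebra.HasTrivialRadical k (L ⧸ LieAlgebra.center k L) := by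
  let Z := LieAlgebra.center k L
  let π := quotHom Z
  refine ⟨(eq_bot_iff).2 fun q hq => ?_⟩
  obtain ⟨x, rfl⟩ := quotHom_surjective Z q
  let R : LieIdeal k L := (LieAlgebra.radical k (L ⧸ Z)).comap π
  have hR : LieAlgebra.IsSolvable R := by
    obtain ⟨n, hn⟩ := LieAlgebra.IsSolvable.solvable k (LieAlgebra.radical k (L ⧸ Z))
    rw [LieIdeal.derivedSeries_eq_bot_iff] at hn
    have h1 : (LieAlgebra.derivedSeriesOfIdeal k L n R).map π = ⊥ := by
      refine eq_bot_iff.2 ((map_derivedSeriesOfIdeal_le π R n).trans ?_)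
      rw [← hn]
      exact LieAlgebra.derivedSeriesOfIdeal_mono LieIdeal.map_comap_le n
    have h2 : LieAlgebra.derivedSeriesOfIdeal k L n R ≤ Z := fun y hy =>
      quotHom_eq_zero.1 ((LieSubmodule.mem_bot _).1 (h1 ▸ LieIdeal.mem_map hy : π y ∈ (⊥ : LieIdeal k (L ⧸ Z))))
    refine LieAlgebra.IsSolvable.mk (R := k) (k := n + 1) ((LieIdeal.derivedSeries_eq_bot_iff _ _).2 ?_)
    rw [LieAlgebra.derivedSeriesOfIdeal_succ, eq_bot_iff, LieSubmodule.lieIdeal_oper_eq_span,
      LieSubmodule.lieSpan_le]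
    rintro _ ⟨a, b, rfl⟩
    exact (LieSubmodule.mem_bot _).2 ((mem_maxTrivSubmodule k L L _).1 (h2 b.2) _)
  have hx : x ∈ R := hq
  exact (LieSubmodule.mem_bot _).2 (quotHom_eq_zero.2 (h ((LieAlgebra.LieIdeal.solvable_iff_le_radical k L R).1 hR hx)))

/-- A Lie algebra with central radical is perfect modulo its centre, ideal by ideal. -/
theorem perfectModCenter_of_radical_le [CharZero k] [FiniteDimensional k L]
    (h : LieAlgebra.radical k L ≤ LieAlgebra.center k L) : PerfectModCenter k L := by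
  intro a x hx
  let Z := LieAlgebra.center k L
  let π := quotHom Z
  haveI := hasTrivialRadical_quot_center h
  haveI : LieAlgebra.IsSemisimple k (L ⧸ Z) := inferInstance
  letI : BooleanAlgebra (LieIdeal k (L ⧸ Z)) := LieAlgebra.IsSemisimple.instBooleanAlgebra
  let I := a.map π
  have hI : I ≤ ⁅I, I⁆ := by
    let K := I ⊓ (⁅I, I⁆)ᶜ
    have hK : K = ⊥ := by
      refine (LieAlgebra.hasTrivialRadical_iff_no_abelian_ideals k (L ⧸ Z)).1 inferInstance K
        ((LieSubmodule.lie_abelian_iff_lie_self_eq_bot K).2 (eq_bot_iff.2 ?_))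
      have h1 : ⁅K, K⁆ ≤ ⁅I, I⁆ := LieSubmodule.mono_lie inf_le_left inf_le_left
      have h2 : ⁅K, K⁆ ≤ (⁅I, I⁆)ᶜ := (LieSubmodule.lie_le_right _ _).trans inf_le_right
      exact (le_inf h1 h2).trans (inf_compl_eq_bot (a := ⁅I, I⁆)).le
    simpa using le_compl_iff_disjoint_right.2 (disjoint_iff.2 hK)
  have hmem : π x ∈ ⁅a, a⁆.map π := by
    rw [LieIdeal.map_bracket_eq π (quotHom_surjective Z)]
    exact hI (LieIdeal.mem_map hx)
  obtain ⟨⟨y, hy⟩, hyx⟩ := LieIdeal.mem_map_of_surjective (quotHom_surjective Z) hmem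
  refine ⟨y, hy, quotHom_eq_zero.1 ?_⟩
  rw [map_sub, sub_eq_zero]
  exact hyx.symm

theorem isIrreducible_of_isAtom {M : Type w} [AddCommGroup M] [Module k M] [LieRingModule L M] [LieModule k L M]
    {S : LieSubmodule k L M} (hS : IsAtom S) : IsIrreducible k L S := by
  haveI : Nontrivial S := Submodule.nontrivial_iff_ne_bot.2
    fun h => hS.1 ((LieSubmodule.toSubmodule_eq_bot S).1 h)
  refine IsIrreducible.mk fun N hN => ?_
  have hle : N.map S.incl ≤ S := by
    rintro _ ⟨m, -, rfl⟩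
    exact m.2
  have hne : N.map S.incl ≠ ⊥ := fun h => hN (eq_bot_iff.2 fun m hm =>
    (LieSubmodule.mem_bot _).2 (Subtype.ext
      ((LieSubmodule.mem_bot _).1 (h ▸ LieSubmodule.mem_map_of_mem hm : S.incl m ∈ (⊥ : LieSubmodule k L M)))))
  have heq : N.map S.incl = S := (hS.le_iff.1 hle).resolve_left hne
  refine eq_top_iff.2 fun m _ => ?_
  obtain ⟨m', hm', he⟩ := (LieSubmodule.mem_map _).1 (heq.ge m.2)
  rwa [show m' = m from Subtype.ext he] at hm'

section Radical

variable {M : Type w} [AddCommGroup M] [Module k M] [LieRingModule L M] [LieModule k L M]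

theorem lie_eq_zero_of_isIrreducible [CharZero k] [IsAlgClosed k] [FiniteDimensional k L]
    [FiniteDimensional k M] [IsIrreducible k L M] {u : L}
    (hu : u ∈ ⁅(⊤ : LieIdeal k L), LieAlgebra.radical k L⁆) (m : M) : ⁅u, m⁆ = 0 := by
  haveI := nontrivial_of_isIrreducible k L M
  obtain ⟨χ, hχ⟩ : ∃ χ : Module.Dual k (LieAlgebra.radical k L), Nontrivial (weightSpace M χ) :=
    exists_nontrivial_weightSpace_of_isSolvable k (LieAlgebra.radical k L) M
  let N : LieSubmodule k L M := weightSpaceOfIsLieTower k M χ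
  replace hχ : Nontrivial N := hχ
  have hN : N = ⊤ := N.eq_top_of_isIrreducible k L M
  have key : ∀ (z : L) (hz : z ∈ LieAlgebra.radical k L) (s : M), ⁅z, s⁆ = χ ⟨z, hz⟩ • s := fun z hz s => by
    have : s ∈ N := hN ▸ LieSubmodule.mem_top s
    have h2 : ∀ (y : L) (hy : y ∈ LieAlgebra.radical k L), ⁅y, s⁆ = χ ⟨y, hy⟩ • s := by
      simpa [N, weightSpaceOfIsLieTower, mem_weightSpace] using this
    exact h2 z hz
  rw [← LieSubmodule.mem_toSubmodule, LieSubmodule.lieIdeal_oper_eq_linear_span] at hu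
  induction hu using Submodule.span_induction with
  | mem z hz =>
    obtain ⟨p, q, rfl⟩ := hz
    rw [lie_lie, key q q.2, key q q.2, lie_smul, sub_self]
  | zero => exact zero_lie m
  | add p q _ _ hp hq => rw [add_lie, hp, hq, add_zero]
  | smul c p _ hp => rw [smul_lie, hp, smul_zero]

theorem isNilpotent_of_mem_bracket_radical [CharZero k] [IsAlgClosed k] [FiniteDimensional k L] {u : L}
    (hu : u ∈ ⁅(⊤ : LieIdeal k L), LieAlgebra.radical k L⁆) :
    ∀ (n : ℕ) {M : Type w} [AddCommGroup M] [Module k M] [LieRingModule L M] [LieModule k L M]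
      [FiniteDimensional k M], Module.finrank k M ≤ n → _root_.IsNilpotent (toEnd k L M u) := by
  intro n
  induction n with
  | zero =>
    intro M _ _ _ _ _ hn
    haveI : Subsingleton M := Module.finrank_zero_iff.1 (Nat.le_zero.1 hn)
    exact ⟨1, Subsingleton.elim _ _⟩
  | succ n ih =>
    intro M _ _ _ _ _ hn
    rcases subsingleton_or_nontrivial M with hM | hM
    · exact ⟨1, Subsingleton.elim _ _⟩
    haveI := (LieSubmodule.nontrivial_iff k L M).2 hM
    obtain ⟨S, hS, -⟩ := (eq_bot_or_exists_atom_le (⊤ : LieSubmodule k L M)).resolve_left top_ne_bot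
    haveI := isIrreducible_of_isAtom hS
    haveI := nontrivial_of_isIrreducible k L S
    have hlt : Module.finrank k (M ⧸ S) ≤ n := by
      have h1 := Submodule.finrank_quotient_add_finrank (S : Submodule k M)
      have h2 : 0 < Module.finrank k (S : Submodule k M) := Module.finrank_pos (R := k) (M := S)
      change Module.finrank k (M ⧸ S) + _ = _ at h1
      omega
    obtain ⟨N, hN⟩ := ih (M := M ⧸ S) hlt
    have hpow : ∀ (i : ℕ) (p : M), (toEnd k L (M ⧸ S) u ^ i) (LieSubmodule.Quotient.mk' S p) =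
        LieSubmodule.Quotient.mk' S ((toEnd k L M u ^ i) p) := by
      intro i
      induction i with
      | zero => intro p; simp
      | succ i ihi => intro p; rw [pow_succ, pow_succ, Module.End.mul_apply, Module.End.mul_apply, ← ihi]; rfl
    refine ⟨N + 1, LinearMap.ext fun p => ?_⟩
    have hmem : (toEnd k L M u ^ N) p ∈ S := by
      rw [← LieSubmodule.Quotient.mk_eq_zero S, ← hpow, hN]
      rfl
    have h0 := congrArg Subtype.val (lie_eq_zero_of_isIrreducible hu (⟨_, hmem⟩ : S))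
    rw [pow_succ', Module.End.mul_apply]
    simpa using h0

/-- In characteristic zero the ideal `⁅L, rad L⁆` kills every simple module. -/
theorem lie_bracket_radical_eq_zero [CharZero k] [FiniteDimensional k L] [FiniteDimensional k M]
    [IsIrreducible k L M] {u : L} (hu : u ∈ ⁅(⊤ : LieIdeal k L), LieAlgebra.radical k L⁆) (m : M) :
    ⁅u, m⁆ = 0 := by
  haveI := nontrivial_of_isIrreducible k L M
  let K := AlgebraicClosure k
  let n : LieIdeal k L := ⁅(⊤ : LieIdeal k L), LieAlgebra.radical k L⁆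
  have hrad : (LieAlgebra.radical k L).baseChange K ≤ LieAlgebra.radical K (TensorProduct k K L) := by
    refine (LieAlgebra.LieIdeal.solvable_iff_le_radical K (TensorProduct k K L) _).1 ?_
    obtain ⟨j, hj⟩ := LieAlgebra.IsSolvable.solvable k (LieAlgebra.radical k L)
    rw [LieIdeal.derivedSeries_eq_bot_iff] at hj
    refine LieAlgebra.IsSolvable.mk (R := K) (k := j) ((LieIdeal.derivedSeries_eq_bot_iff _ _).2 ?_)
    rw [LieAlgebra.derivedSeriesOfIdeal_baseChange, hj, LieSubmodule.baseChange_bot]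
  have hnil : ∀ v ∈ n, _root_.IsNilpotent (toEnd k L M v) := by
    intro v hv
    have hv' : (1 : K) ⊗ₜ[k] v ∈
        ⁅(⊤ : LieIdeal K (TensorProduct k K L)), LieAlgebra.radical K (TensorProduct k K L)⁆ := by
      refine LieSubmodule.mono_lie le_top hrad (?_ : _ ∈ ⁅(⊤ : LieIdeal k L).baseChange K, _⁆)
      rw [← LieSubmodule.lie_baseChange]
      exact LieSubmodule.tmul_mem_baseChange_of_mem 1 hv
    have h1 := isNilpotent_of_mem_bracket_radical hv' _ (M := TensorProduct k K M) le_rfl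
    rw [LieModule.toEnd_baseChange] at h1
    have hbc_inj : Function.Injective (Module.End.baseChangeHom k K M) := LinearMap.baseChangeHom_injective k M K
    exact (IsNilpotent.map_iff hbc_inj).1 h1
  haveI : LieModule.IsNilpotent n M := (LieModule.isNilpotent_iff_forall' (R := k)).2 fun v => hnil v v.2
  let N : LieSubmodule k L M :=
    { carrier := {w | ∀ v ∈ n, ⁅v, w⁆ = 0}
      add_mem' := fun ha hb v hv => by rw [lie_add, ha v hv, hb v hv, add_zero]
      zero_mem' := fun v _ => lie_zero _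
      smul_mem' := fun c a ha v hv => by rw [lie_smul, ha v hv, smul_zero]
      lie_mem := fun {y w} hw v hv => by
        rw [leibniz_lie, hw v hv, lie_zero, add_zero, ← lie_skew v y, neg_lie, hw _ (n.lie_mem hv), neg_zero] }
  haveI : Nontrivial N := by
    haveI := nontrivial_max_triv_of_isNilpotent k n M
    obtain ⟨⟨w, hw⟩, hw0⟩ := exists_ne (0 : maxTrivSubmodule k n M)
    exact ⟨⟨w, fun v hv => (mem_maxTrivSubmodule k n M w).1 hw ⟨v, hv⟩⟩, 0,
      fun h => hw0 (Subtype.ext (congrArg (fun z : N => (z : M)) h))⟩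
  have hN : N = ⊤ := N.eq_top_of_isIrreducible k L M
  exact (hN ▸ LieSubmodule.mem_top m : m ∈ N) u hu

/-- If the simple modules of a family detect every element, the radical is central. -/
theorem radical_le_center_of_faithful [CharZero k] [FiniteDimensional k L]
    (h : ∀ u : L, (∀ (M : Type w) [AddCommGroup M] [Module k M] [LieRingModule L M] [LieModule k L M],
      FiniteDimensional k M → IsIrreducible k L M → ∀ m : M, ⁅u, m⁆ = 0) → u = 0) :
    LieAlgebra.radical k L ≤ LieAlgebra.center k L := by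
  intro x hx
  refine (mem_maxTrivSubmodule k L L x).2 fun y => h _ fun M _ _ _ _ hfin hirr m => ?_
  haveI := hfin
  haveI := hirr
  exact lie_bracket_radical_eq_zero (LieSubmodule.lie_mem_lie (LieSubmodule.mem_top y) hx) m

end Radical

section Invariant

variable {V : Type w} [AddCommGroup V] [Module k V] [LieRingModule L V] [LieModule k L V]

theorem lie_bracket_apply_eq_zero {x y : L} {v : V} (W : LieSubmodule k L V)
    (hv : ⁅x, v⁆ ∈ W) (hv' : ⁅y, v⁆ ∈ W) (hx : ∀ w ∈ W, ⁅x, w⁆ = 0) (hy : ∀ w ∈ W, ⁅y, w⁆ = 0) :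
    ⁅⁅x, y⁆, v⁆ = 0 := by
  rw [lie_lie, hx _ hv', hy _ hv, sub_self]

theorem apply_eq_zero_of_mem_bracket {a : LieIdeal k L} (W : LieSubmodule k L V) {v : V}
    (hv : ∀ x : L, ⁅x, v⁆ ∈ W) (ha : ∀ x ∈ a, ∀ w ∈ W, ⁅x, w⁆ = 0) {x : L} (hx : x ∈ ⁅a, a⁆) :
    ⁅x, v⁆ = 0 := by
  rw [← LieSubmodule.mem_toSubmodule, LieSubmodule.lieIdeal_oper_eq_linear_span] at hx
  induction hx using Submodule.span_induction with
  | mem z hz =>
    obtain ⟨p, q, rfl⟩ := hz
    exact lie_bracket_apply_eq_zero W (hv _) (hv _) (ha _ p.2) (ha _ q.2)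
  | zero => exact zero_lie _
  | add p q _ _ hp hq => rw [add_lie, hp, hq, add_zero]
  | smul c p _ hp => rw [smul_lie, hp, smul_zero]

theorem exists_invariant_trivial (hP : PerfectModCenter k L)
    (hz : ∀ z ∈ LieAlgebra.center k L, ∀ p : V, ⁅z, ⁅z, p⁆⁆ = 0 → ⁅z, p⁆ = 0) (W : LieSubmodule k L V) {v : V}
    (hv : ∀ x : L, ⁅x, v⁆ ∈ W) (hW : ∀ (x : L), ∀ w ∈ W, ⁅x, w⁆ = 0) (x : L) : ⁅x, v⁆ = 0 := by
  obtain ⟨y, hy, hxy⟩ := hP ⊤ x trivial
  have h1 : ⁅y, v⁆ = 0 := apply_eq_zero_of_mem_bracket W hv (fun x _ => hW x) hy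
  have h2 : ⁅x - y, v⁆ = 0 := hz _ hxy _ (hW _ _ (hv _))
  rw [sub_lie, h1, sub_zero] at h2
  exact h2

/-- An ideal orthogonal to everything for the trace form of an irreducible module acts by zero. -/
theorem lie_eq_zero_of_orthogonal [CharZero k] [FiniteDimensional k L] [FiniteDimensional k V]
    (hP : PerfectModCenter k L) (W : LieSubmodule k L V) [IsIrreducible k L W]
    (hzW : ∀ z ∈ LieAlgebra.center k L, ∀ w : W, ⁅z, w⁆ = 0) {x : L}
    (hx : ∀ y, traceForm k L W x y = 0) (w : W) : ⁅x, w⁆ = 0 := by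
  haveI := nontrivial_of_isIrreducible k L W
  let J : LieIdeal k L :=
    { LinearMap.ker (traceForm k L W) with
      lie_mem := fun {p m} hm => by
        change m ∈ LinearMap.ker (traceForm k L W) at hm
        show ⁅p, m⁆ ∈ LinearMap.ker (traceForm k L W)
        rw [LinearMap.mem_ker] at hm ⊢
        ext q
        rw [traceForm_apply_lie_apply', hm]
        simp }
  have hJx : x ∈ J := by
    show x ∈ LinearMap.ker (traceForm k L W)
    exact LinearMap.mem_ker.2 (LinearMap.ext hx)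
  haveI : LieModule.IsNilpotent (LieAlgebra.derivedSeries k J 1) W :=
    isNilpotent_derivedSeries_of_traceForm_eq_zero (R := k) (L := J) (M := W) (by
      ext ⟨p, hp⟩ q
      show traceForm k L W p q = 0
      change p ∈ LinearMap.ker (traceForm k L W) at hp
      rw [LinearMap.mem_ker.1 hp]
      rfl)
  let N : LieSubmodule k L W :=
    { carrier := {w | ∀ p ∈ J, ∀ q ∈ J, ⁅⁅p, q⁆, w⁆ = 0}
      add_mem' := fun ha hb p hp q hq => by rw [lie_add, ha p hp q hq, hb p hp q hq, add_zero]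
      zero_mem' := fun p _ q _ => lie_zero _
      smul_mem' := fun c a ha p hp q hq => by rw [lie_smul, ha p hp q hq, smul_zero]
      lie_mem := fun {y m} hm p hp q hq => by
        rw [leibniz_lie ⁅p, q⁆ y m, hm p hp q hq, lie_zero, add_zero, ← lie_skew ⁅p, q⁆ y, neg_lie,
          leibniz_lie y p q, add_lie, hm _ (J.lie_mem hp) _ hq, hm _ hp _ (J.lie_mem hq), add_zero, neg_zero] }
  have hNne : Nontrivial N := by
    haveI := nontrivial_max_triv_of_isNilpotent k (LieAlgebra.derivedSeries k J 1) W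
    obtain ⟨⟨w, hw⟩, hw0⟩ := exists_ne (0 : maxTrivSubmodule k (LieAlgebra.derivedSeries k J 1) W)
    refine ⟨⟨w, fun p hp q hq => ?_⟩, 0, fun h => hw0 (Subtype.ext (congrArg (fun z : N => (z : W)) h))⟩
    have hmem : (⁅(⟨p, hp⟩ : J), (⟨q, hq⟩ : J)⁆ : J) ∈ LieAlgebra.derivedSeries k J 1 := by
      rw [LieAlgebra.derivedSeries_def, LieAlgebra.derivedSeriesOfIdeal_succ,
        LieAlgebra.derivedSeriesOfIdeal_zero]
      exact LieSubmodule.lie_mem_lie (LieSubmodule.mem_top _) (LieSubmodule.mem_top _)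
    exact (mem_maxTrivSubmodule k _ W w).1 hw ⟨_, hmem⟩
  have hN : N = ⊤ := N.eq_top_of_isIrreducible k L W
  have h0 : ∀ y ∈ ⁅J, J⁆, ∀ w : W, ⁅y, w⁆ = 0 := by
    intro y hy
    rw [← LieSubmodule.mem_toSubmodule, LieSubmodule.lieIdeal_oper_eq_linear_span] at hy
    induction hy using Submodule.span_induction with
    | mem z hz =>
      obtain ⟨p, q, rfl⟩ := hz
      intro w
      have : w ∈ N := hN ▸ LieSubmodule.mem_top w
      exact this _ p.2 _ q.2
    | zero => intro w; exact zero_lie w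
    | add p q _ _ hp hq => intro w; rw [add_lie, hp, hq, add_zero]
    | smul c p _ hp => intro w; rw [smul_lie, hp, smul_zero]
  obtain ⟨y, hy, hxy⟩ := hP J x hJx
  have := hzW _ hxy w
  rwa [sub_lie, h0 y hy w, sub_zero] at this

/-- Dual families for the trace form modulo the kernel of the action. -/
theorem exists_dual_family [CharZero k] [FiniteDimensional k L] [FiniteDimensional k V]
    (hP : PerfectModCenter k L) (W : LieSubmodule k L V) [IsIrreducible k L W]
    (hzW : ∀ z ∈ LieAlgebra.center k L, ∀ w : W, ⁅z, w⁆ = 0) :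
    ∃ (n : ℕ) (x x' : Fin n → L), (∀ i j, traceForm k L W (x i) (x' j) = if i = j then 1 else 0) ∧
      (∀ (y : L) (w : W), ⁅y, w⁆ = ∑ i, traceForm k L W y (x' i) • ⁅x i, w⁆) ∧
      ∀ (y : L) (w : W), ⁅y, w⁆ = ∑ i, traceForm k L W (x i) y • ⁅x' i, w⁆ := by
  classical
  let a : Submodule k L := LinearMap.ker (toEnd k L W : L →ₗ[k] Module.End k W)
  obtain ⟨c, hc⟩ := a.exists_isCompl
  have hkill : ∀ x, (∀ y, traceForm k L W x y = 0) → x ∈ a := fun x hx =>
    LinearMap.mem_ker.2 (LinearMap.ext fun w => lie_eq_zero_of_orthogonal hP W hzW hx w)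
  have ha0 : ∀ x ∈ a, ∀ y, traceForm k L W x y = 0 := fun x hx y => by
    have h0 : toEnd k L W x = 0 := LinearMap.mem_ker.1 hx
    rw [traceForm_apply_apply, h0, LinearMap.zero_comp, map_zero]
  let B : LinearMap.BilinForm k c := LinearMap.BilinForm.restrict (traceForm k L W) c
  have hBl : ∀ p : c, (∀ q : c, B p q = 0) → p = 0 := fun p hp => by
    refine Subtype.ext (Submodule.disjoint_def.1 hc.disjoint _ (hkill _ fun y => ?_) p.2)
    obtain ⟨s, hs, t, ht, rfl⟩ := Submodule.mem_sup.1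
      (hc.sup_eq_top ▸ Submodule.mem_top : y ∈ a ⊔ c)
    rw [map_add, traceForm_comm k L W _ s, ha0 s hs, zero_add]
    exact hp ⟨t, ht⟩
  have hB : B.Nondegenerate :=
    ⟨hBl, fun p hp => hBl p fun q => (traceForm_comm k L W _ _).trans (hp q)⟩
  let b := Module.finBasis k c
  let b' := B.dualBasis hB b
  have hb : ∀ i j, B (b' i) (b j) = if j = i then 1 else 0 := B.apply_dualBasis_left hB b
  have hb2 : ∀ i j, B (b i) (b' j) = if i = j then 1 else 0 := fun i j =>
    (traceForm_comm k L W _ _).trans (hb j i)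
  have exp : ∀ (β β' : Module.Basis (Fin (Module.finrank k c)) k c),
      (∀ i j, B (β i) (β' j) = if i = j then 1 else 0) → ∀ (y : L) (w : W),
      ⁅y, w⁆ = ∑ i, traceForm k L W y (β' i : L) • ⁅(β i : L), w⁆ := by
    intro β β' hβ y w
    obtain ⟨s, hs, t, ht, rfl⟩ := Submodule.mem_sup.1
      (hc.sup_eq_top ▸ Submodule.mem_top : y ∈ a ⊔ c)
    have hrep : ∀ i, β.repr ⟨t, ht⟩ i = traceForm k L W t (β' i : L) := fun i => by
      conv_rhs => rw [show t = ((⟨t, ht⟩ : c) : L) from rfl, ← β.sum_repr ⟨t, ht⟩]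
      show _ = B (∑ j, β.repr ⟨t, ht⟩ j • β j) (β' i)
      rw [map_sum, LinearMap.sum_apply]
      simp [hβ]
    have hs0 : ⁅s, w⁆ = 0 := LinearMap.congr_fun (LinearMap.mem_ker.1 hs) w
    rw [add_lie, hs0, zero_add]
    simp only [map_add, LinearMap.add_apply, ha0 s hs, zero_add, ← hrep]
    have hsum := congrArg (c.subtype) (β.sum_repr ⟨t, ht⟩)
    simp only [map_sum, map_smul, Submodule.coe_subtype] at hsum
    conv_lhs => rw [← hsum]
    simp only [sum_lie, smul_lie]
  refine ⟨_, fun i => (b i : L), fun i => (b' i : L), hb2, exp b b' hb2, fun y w => ?_⟩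
  rw [exp b' b (fun i j => by rw [hb]; simp [eq_comm]) y w]
  exact Finset.sum_congr rfl fun i _ => by rw [traceForm_comm]

/-- The irreducible case. -/
theorem exists_invariant_irreducible [CharZero k] [FiniteDimensional k L] [FiniteDimensional k V]
    (hP : PerfectModCenter k L) (hz : ∀ z ∈ LieAlgebra.center k L, ∀ p : V, ⁅z, ⁅z, p⁆⁆ = 0 → ⁅z, p⁆ = 0)
    (W : LieSubmodule k L V) [IsIrreducible k L W] {v : V} (hv : ∀ x : L, ⁅x, v⁆ ∈ W) :
    ∃ w ∈ W, ∀ x : L, ⁅x, v + w⁆ = 0 := by
  classical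
  haveI := nontrivial_of_isIrreducible k L W
  by_cases htriv : ∀ (x : L), ∀ w ∈ W, ⁅x, w⁆ = 0
  · exact ⟨0, W.zero_mem, fun x => by rw [add_zero]; exact exists_invariant_trivial hP hz W hv htriv x⟩
  -- a central element acting invertibly
  by_cases hcen : ∃ z ∈ LieAlgebra.center k L, ∃ w : W, ⁅z, w⁆ ≠ 0
  · obtain ⟨z, hzc, w₁, hw₁⟩ := hcen
    have hzx : ∀ (q : L) (p : V), ⁅z, ⁅q, p⁆⁆ = ⁅q, ⁅z, p⁆⁆ := fun q p => by
      rw [leibniz_lie, ← lie_skew z q, (mem_maxTrivSubmodule k L L z).1 hzc q, neg_zero, zero_lie, zero_add]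
    let K : LieSubmodule k L W :=
      { LinearMap.ker (toEnd k L W z) with
        lie_mem := fun {q m} hm => by
          change m ∈ LinearMap.ker (toEnd k L W z) at hm
          show ⁅q, m⁆ ∈ LinearMap.ker (toEnd k L W z)
          rw [LinearMap.mem_ker] at hm ⊢
          refine Subtype.ext ?_
          show ⁅z, ⁅q, (m : V)⁆⁆ = 0
          rw [hzx, show ⁅z, (m : V)⁆ = 0 from congrArg Subtype.val hm, lie_zero] }
    have hinj : Function.Injective (toEnd k L W z) := by
      rw [← LinearMap.ker_eq_bot]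
      by_contra hK0
      haveI : Nontrivial K := Submodule.nontrivial_iff_ne_bot.2 hK0
      have hKt := K.eq_top_of_isIrreducible k L W
      exact hw₁ (LinearMap.mem_ker.1 (show w₁ ∈ K from hKt ▸ LieSubmodule.mem_top w₁))
    obtain ⟨w, hw⟩ := LinearMap.surjective_of_injective hinj ⟨-⁅z, v⁆, neg_mem (hv z)⟩
    refine ⟨w, w.2, fun q => ?_⟩
    have hmem : ⁅q, v + (w : V)⁆ ∈ W := by rw [lie_add]; exact add_mem (hv q) (W.lie_mem w.2)
    have h : toEnd k L W z ⟨⁅q, v + (w : V)⁆, hmem⟩ = toEnd k L W z 0 := by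
      refine Subtype.ext ?_
      rw [map_zero]
      show ⁅z, ⁅q, v + (w : V)⁆⁆ = 0
      have h1 : ⁅z, (w : V)⁆ = -⁅z, v⁆ := congrArg Subtype.val hw
      rw [hzx, lie_add z, h1, add_neg_cancel, lie_zero]
    exact congrArg Subtype.val (hinj h)
  push Not at hcen
  have hzW : ∀ z ∈ LieAlgebra.center k L, ∀ w : W, ⁅z, w⁆ = 0 := hcen
  -- elements killing `W` kill `v`
  have hfix : ∀ w : W, (∀ y : L, ⁅y, w⁆ = 0) → w = 0 := by
    intro w hw
    by_contra h0
    refine htriv fun x m hm => ?_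
    haveI : Nontrivial (maxTrivSubmodule k L W) :=
      ⟨⟨w, (mem_maxTrivSubmodule k L W w).2 hw⟩, 0, fun h => h0 (congrArg Subtype.val h)⟩
    have htop := (maxTrivSubmodule k L W).eq_top_of_isIrreducible k L W
    have : ⁅x, (⟨m, hm⟩ : W)⁆ = 0 :=
      (mem_maxTrivSubmodule k L W _).1 (htop ▸ LieSubmodule.mem_top _) x
    simpa using congrArg Subtype.val this
  have hker : ∀ x : L, (∀ w ∈ W, ⁅x, w⁆ = 0) → ⁅x, v⁆ = 0 := by
    intro x hx
    let a : LieIdeal k L :=
      { carrier := {x | ∀ w ∈ W, ⁅x, w⁆ = 0}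
        add_mem' := fun hp hq w hw => by rw [add_lie, hp w hw, hq w hw, add_zero]
        zero_mem' := fun w _ => zero_lie _
        smul_mem' := fun c p hp w hw => by rw [smul_lie, hp w hw, smul_zero]
        lie_mem := fun {p m} hm w hw => by
          rw [lie_lie, hm w hw, lie_zero, hm _ (W.lie_mem hw), sub_zero] }
    obtain ⟨y, hy, hxy⟩ := hP a x hx
    have h1 : ⁅y, v⁆ = 0 := apply_eq_zero_of_mem_bracket (a := a) W hv (fun p hp w hw => hp w hw) hy
    have hya : y ∈ a := LieSubmodule.lie_le_left a a hy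
    have h2 : (⟨⁅x - y, v⁆, hv _⟩ : W) = 0 := hfix _ fun q => by
      refine Subtype.ext ?_
      show ⁅q, ⁅x - y, v⁆⁆ = 0
      rw [leibniz_lie, (mem_maxTrivSubmodule k L L _).1 hxy q, zero_lie, zero_add]
      exact a.sub_mem hx hya _ (hv q)
    have h3 : ⁅x - y, v⁆ = 0 := congrArg Subtype.val h2
    rwa [sub_lie, h1, sub_zero] at h3
  obtain ⟨n, x, x', hxx, hexp, hexp'⟩ := exists_dual_family hP W hzW
  -- vectors on which the action factors through the action on `W`
  let P : V → Prop := fun p => (∀ q : L, ⁅q, p⁆ ∈ W) ∧ ∀ q : L, (∀ w ∈ W, ⁅q, w⁆ = 0) → ⁅q, p⁆ = 0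
  have hPW : ∀ p ∈ W, P p := fun p hp => ⟨fun q => W.lie_mem hp, fun q hq => hq p hp⟩
  have hPv : P v := ⟨hv, hker⟩
  have hT : ∀ (y : L) (p : V), P p → ⁅y, p⁆ = ∑ i, traceForm k L W y (x' i) • ⁅x i, p⁆ := by
    intro y p hp
    have := hp.2 (y - ∑ i, traceForm k L W y (x' i) • x i) fun w hw => by
      have h := congrArg Subtype.val (hexp y ⟨w, hw⟩)
      simp only [sub_lie, sum_lie, smul_lie]
      rw [sub_eq_zero]
      simpa using h
    rw [sub_lie, sum_lie, sub_eq_zero] at this
    simpa only [smul_lie] using this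
  have hT' : ∀ (y : L) (p : V), P p → ⁅y, p⁆ = ∑ i, traceForm k L W (x i) y • ⁅x' i, p⁆ := by
    intro y p hp
    have := hp.2 (y - ∑ i, traceForm k L W (x i) y • x' i) fun w hw => by
      have h := congrArg Subtype.val (hexp' y ⟨w, hw⟩)
      simp only [sub_lie, sum_lie, smul_lie]
      rw [sub_eq_zero]
      simpa using h
    rw [sub_lie, sum_lie, sub_eq_zero] at this
    simpa only [smul_lie] using this
  let C : Module.End k V := ∑ i, toEnd k L V (x i) * toEnd k L V (x' i)
  have hCapp : ∀ p, C p = ∑ i, ⁅x i, ⁅x' i, p⁆⁆ := fun p => by simp [C, LinearMap.sum_apply]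
  have hCmem : ∀ p, P p → C p ∈ W := fun p hp => by
    rw [hCapp]
    exact sum_mem fun i _ => W.lie_mem (hp.1 _)
  have hcomm : ∀ (y : L) (p : V), P p → ⁅y, C p⁆ = C ⁅y, p⁆ := by
    intro y p hp
    rw [hCapp, hCapp, lie_sum]
    have e : ∀ i, ⁅y, ⁅x i, ⁅x' i, p⁆⁆⁆ =
        ⁅⁅y, x i⁆, ⁅x' i, p⁆⁆ + ⁅x i, ⁅⁅y, x' i⁆, p⁆⁆ + ⁅x i, ⁅x' i, ⁅y, p⁆⁆⁆ := fun i => by
      rw [leibniz_lie y (x i), leibniz_lie y (x' i), lie_add, add_assoc]
    rw [Finset.sum_congr rfl fun i _ => e i, Finset.sum_add_distrib, Finset.sum_add_distrib, add_eq_right]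
    rw [Finset.sum_congr rfl fun i _ => hT ⁅y, x i⁆ _ (hPW _ (hp.1 _)),
      Finset.sum_congr rfl fun i _ => congrArg (fun z => ⁅x i, z⁆) (hT' ⁅y, x' i⁆ _ hp)]
    simp only [lie_sum, lie_smul]
    rw [Finset.sum_comm, ← Finset.sum_add_distrib]
    refine Finset.sum_eq_zero fun i _ => ?_
    rw [← Finset.sum_add_distrib]
    refine Finset.sum_eq_zero fun j _ => ?_
    rw [← add_smul, traceForm_apply_lie_apply' k L W y (x j) (x' i), neg_add_cancel, zero_smul]
  -- `C` is invertible on `W`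
  let CW : Module.End k W := ∑ i, toEnd k L W (x i) * toEnd k L W (x' i)
  have hCW : ∀ w : W, ((CW w : W) : V) = C w := fun w => by simp [CW, hCapp, LinearMap.sum_apply]
  have hn : n ≠ 0 := by
    rintro rfl
    refine htriv fun q w hw => ?_
    simpa using congrArg Subtype.val (hexp q ⟨w, hw⟩)
  have hCne : CW ≠ 0 := fun h => by
    have h1 : LinearMap.trace k W CW = (n : k) := by
      simp only [CW, map_sum, Module.End.mul_eq_comp, ← traceForm_apply_apply, hxx, if_true, Finset.sum_const,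
        Finset.card_univ, Fintype.card_fin, nsmul_eq_mul, mul_one]
    rw [h, map_zero] at h1
    exact hn (Nat.cast_eq_zero.1 h1.symm)
  let K : LieSubmodule k L W :=
    { LinearMap.ker CW with
      lie_mem := fun {q m} hm => by
        change m ∈ LinearMap.ker CW at hm
        show ⁅q, m⁆ ∈ LinearMap.ker CW
        rw [LinearMap.mem_ker] at hm ⊢
        refine Subtype.ext ?_
        rw [hCW]
        show C ⁅q, (m : V)⁆ = _
        rw [← hcomm q _ (hPW _ m.2), ← hCW, hm]
        simp }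
  have hinj : Function.Injective CW := by
    rw [← LinearMap.ker_eq_bot]
    by_contra hK0
    haveI : Nontrivial K := Submodule.nontrivial_iff_ne_bot.2 hK0
    have hKt := K.eq_top_of_isIrreducible k L W
    exact hCne (LinearMap.ext fun m => LinearMap.mem_ker.1 (show m ∈ K from hKt ▸ LieSubmodule.mem_top m))
  obtain ⟨w, hw⟩ := LinearMap.surjective_of_injective hinj ⟨- C v, neg_mem (hCmem v hPv)⟩
  refine ⟨w, w.2, fun q => ?_⟩
  have hC0 : C (v + w) = 0 := by
    rw [map_add, ← hCW, hw]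
    exact add_neg_cancel _
  have hPvw : P (v + w) :=
    ⟨fun q => by rw [lie_add]; exact add_mem (hv q) (W.lie_mem w.2),
      fun q hq => by rw [lie_add, hker q hq, hq w w.2, add_zero]⟩
  have hmem := hPvw.1 q
  have h : CW ⟨⁅q, v + (w : V)⁆, hmem⟩ = CW 0 := by
    refine Subtype.ext ?_
    rw [hCW, map_zero, ← hcomm q _ hPvw, hC0, lie_zero]
    rfl
  exact congrArg Subtype.val (hinj h)

end Invariant

end

end Groth.Agent.H20Red
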