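import Groth.Agent.H20Red.Center
import Groth.Agent.H20Red.LieH1
import Groth.Agent.H20Comod.LinRedCrit

/-!
A connected group in characteristic zero without unipotent normal subgroup is linearly reductive.
-/

set_option autoImplicit false
set_option linter.style.haveILetI false
set_option backward.isDefEq.respectTransparency false

universe u

open TensorProduct HopfRep
open Groth.Agent.H20Comod

attribute [local instance 100] LieRing.ofAssociativeRing

namespace Groth.Agent.H20Red

noncomputable section

variable {k : Type u} [Field k] {A : Type u} [CommRing A] [HopfAlgebra k A]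
variable {V : Type u} [AddCommGroup V] [Module k V] [Comod k A V]

/-- A comodule as a module over the Lie algebra. -/
abbrev lieRingModule : LieRingModule (LieG k A) V := LieRingModule.compLieHom V (rho k A V)

theorem lieModule : letI := lieRingModule (k := k) (A := A) (V := V); LieModule k (LieG k A) V :=
  LieModule.compLieHom V (rho k A V)

variable [IsDomain A] [CharZero k] [Algebra.FiniteType k A]

theorem isSubcomod_lieSubmodule :
    letI := lieRingModule (k := k) (A := A) (V := V)
    ∀ W : LieSubmodule k (LieG k A) V, IsSubcomod (k := k) (A := A) (W : Submodule k V) := by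
  letI := lieRingModule (k := k) (A := A) (V := V)
  exact fun W => isSubcomod_of_stable_domain _ fun x v hv => W.lie_mem (x := x) hv

theorem perfectModCenter (hI : kerIdeal k A = RingHom.ker (Bialgebra.counitAlgHom k A)) :
    PerfectModCenter k (LieG k A) := by
  refine perfectModCenter_of_radical_le (radical_le_center_of_faithful fun u hu => ?_)
  refine eq_zero_of_forall_simple hI fun m hm a ha => ?_
  let W : Submodule k A := m.restrictScalars k
  have hW : IsSubcomod (k := k) (A := A) W := isSubcomod_restrictScalars m
  letI cW := ComodSub.Comod.restr (inferInstance : Comod k A A) W hW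
  have hWs : IsSimpleComod k A W := isSimpleComod_restr hm
  haveI : FiniteDimensional k W := finite_of_isSimpleModule (isSimpleComod_iff.1 hWs)
  letI := lieRingModule (k := k) (A := A) (V := W)
  haveI := lieModule (k := k) (A := A) (V := W)
  haveI := hWs.1
  have hirr : LieModule.IsIrreducible k (LieG k A) W := by
    refine LieModule.IsIrreducible.mk fun N hN => ?_
    rcases hWs.2 _ (isSubcomod_lieSubmodule N) with h | h
    · exact absurd ((LieSubmodule.toSubmodule_eq_bot N).1 h) hN
    · exact eq_top_iff.2 fun v _ => (h ▸ Submodule.mem_top : v ∈ (N : Submodule k W))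
  have h := congrArg Subtype.val (hu W inferInstance hirr ⟨a, ha⟩)
  change ((rho k A W u ⟨a, ha⟩ : W) : A) = 0 at h
  rw [coe_eq_actL u]
  rw [rho_apply] at h
  exact ((actL_comm_of_isComodHom
    (ComodSub.isComodHom_subtype (inferInstance : Comod k A A) W hW) (form u) ⟨a, ha⟩).symm.trans h)

/-- A vector invariant modulo a subcomodule can be corrected. -/
theorem exists_invariant (hI : kerIdeal k A = RingHom.ker (Bialgebra.counitAlgHom k A)) :
    ∀ (n : ℕ) (V : Type u) [AddCommGroup V] [Module k V] [Comod k A V] [FiniteDimensional k V]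
      (W : Submodule k V), IsSubcomod (k := k) (A := A) W → Module.finrank k W ≤ n → ∀ v : V,
      (∀ x : LieG k A, rho k A V x v ∈ W) → ∃ w ∈ W, ∀ x : LieG k A, rho k A V x (v + w) = 0 := by
  intro n
  induction n with
  | zero =>
    intro V _ _ _ _ W _ hW v hv
    have : W = ⊥ := Submodule.finrank_eq_zero.1 (Nat.le_zero.1 hW)
    subst this
    exact ⟨0, zero_mem _, fun x => by rw [add_zero]; exact (Submodule.mem_bot k).1 (hv x)⟩
  | succ n ih =>
    intro V _ _ _ _ W hWs hW v hv
    by_cases hsimp : ∀ S : Submodule k V, IsSubcomod (k := k) (A := A) S → S < W → S = ⊥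
    · by_cases h0 : W = ⊥
      · subst h0
        exact ⟨0, zero_mem _, fun x => by rw [add_zero]; exact (Submodule.mem_bot k).1 (hv x)⟩
      letI := lieRingModule (k := k) (A := A) (V := V)
      haveI := lieModule (k := k) (A := A) (V := V)
      let W' : LieSubmodule k (LieG k A) V :=
        { W with lie_mem := fun {x m} hm => rho_mem_of_isSubcomod hWs x hm }
      haveI : LieModule.IsIrreducible k (LieG k A) W' := by
        refine isIrreducible_of_isAtom ⟨fun h => h0 (congrArg (fun N : LieSubmodule k (LieG k A) V =>
          (N : Submodule k V)) h), fun S hS => ?_⟩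
        exact (LieSubmodule.toSubmodule_eq_bot S).1 (hsimp _ (isSubcomod_lieSubmodule S) hS)
      exact exists_invariant_irreducible (perfectModCenter hI)
        (fun z hz p hp => sq_apply_eq_zero (V := V) hI hz hp) W' hv
    push Not at hsimp
    obtain ⟨S, hS, hSW, hS0⟩ := hsimp
    letI cQ := ComodSub.Comod.quot (inferInstance : Comod k A V) S hS
    have hπ := ComodSub.isComodHom_mkQ (inferInstance : Comod k A V) S hS
    have hrho : ∀ (x : LieG k A) (p : V), rho k A (V ⧸ S) x (S.mkQ p) = S.mkQ (rho k A V x p) := fun x p =>
      (actL_comm_of_isComodHom hπ (form x) p).symm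
    have hlt := Submodule.finrank_lt_finrank_of_lt hSW
    have hpos : 0 < Module.finrank k S :=
      Nat.pos_of_ne_zero fun h => hS0 (Submodule.finrank_eq_zero.1 h)
    have hWb : Module.finrank k (W.map S.mkQ) ≤ n := by
      let f : W →ₗ[k] V ⧸ S := S.mkQ ∘ₗ W.subtype
      have hr : W.map S.mkQ = LinearMap.range f := by rw [LinearMap.range_comp, Submodule.range_subtype]
      have hk : LinearMap.ker f = S.comap W.subtype := by rw [LinearMap.ker_comp, Submodule.ker_mkQ]
      have := LinearMap.finrank_range_add_finrank_ker f
      rw [← hr, hk, (Submodule.comapSubtypeEquivOfLe hSW.le).finrank_eq] at this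
      omega
    obtain ⟨wb, hwb, hwb'⟩ := ih (V ⧸ S) (W.map S.mkQ) (isSubcomod_map hπ hWs) hWb (S.mkQ v)
      (fun x => by rw [hrho]; exact Submodule.mem_map_of_mem (hv x))
    obtain ⟨w, hw, rfl⟩ := hwb
    obtain ⟨t, ht, ht'⟩ := ih V S hS (by omega) (v + w) fun x => by
      have h := hwb' x
      rw [← map_add, hrho] at h
      exact (Submodule.Quotient.mk_eq_zero S).1 h
    exact ⟨w + t, add_mem hw (hSW.le ht), fun x => by rw [← add_assoc]; exact ht' x⟩

/-- **Connected groups in characteristic zero without normal unipotent subgroup are linearly reductive.** -/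
theorem isLinearlyReductive_of_kerIdeal (hI : kerIdeal k A = RingHom.ker (Bialgebra.counitAlgHom k A)) :
    IsLinearlyReductive k A := by
  refine isLinearlyReductive_of_forall_exists_fixed fun V _ _ _ hV π hπs hπ => ?_
  haveI := hV
  obtain ⟨v₀, hv₀⟩ := hπs 1
  have hπ' : ∀ x, π.rTensor A (Comod.coact (k := k) (A := A) x) = π x ⊗ₜ[k] (1 : A) := LinearMap.congr_fun hπ
  have hK : IsSubcomod (k := k) (A := A) (LinearMap.ker π) := by
    intro x hx
    refine (rTensor_exact A (LinearMap.exact_subtype_ker_map π) hπs _).1 ?_
    rw [hπ', LinearMap.mem_ker.1 hx, TensorProduct.zero_tmul]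
  have hv : ∀ x : LieG k A, rho k A V x v₀ ∈ LinearMap.ker π := fun x => by
    rw [LinearMap.mem_ker, rho_apply, actL_apply, apply_sliceR_eq_apply_sliceL]
    have h : sliceL π (Comod.coact (k := k) (A := A) v₀) = π v₀ • (1 : A) := by
      have e := congrArg (sliceL (LinearMap.id : k →ₗ[k] k)) (hπ' v₀)
      rw [sliceL_rTensor, LinearMap.id_comp, sliceL_tmul, LinearMap.id_apply] at e
      exact e
    rw [h, map_smul, form_one, smul_zero]
  obtain ⟨w, hw, hw'⟩ := exists_invariant hI _ V (LinearMap.ker π) hK le_rfl v₀ hv
  refine ⟨v₀ + w, coact_eq_of_forall_rho hw', ?_⟩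
  rw [map_add, LinearMap.mem_ker.1 hw, add_zero, hv₀]
  exact one_ne_zero

end

end Groth.Agent.H20Red
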